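import Cfsg.Agent.H157.HK.F

/-!
# The strong form of Tits' deformation theorem (helper157)

* `Sys cs t z` : `z` is a complete system of orthogonal idempotents of the centre;
* `typ cs t v J` : the rank of `v e_J`;
* `strong` : the multisets of the types `J ↦ typ (z i) J` at two parameters of the path are the same.
-/

set_option autoImplicit false
set_option linter.unusedSectionVars false

namespace Cfsg.Agent.H157.HK

open CoxeterSystem Cfsg.Agent.Tits.Exchange Cfsg.Agent.Tits.Core Module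
open scoped ComplexConjugate

/-! ### Combinatorics -/

section Comb

variable {κ : Type*} [Finite κ]

/-- A linear functional with integral coefficients which vanishes on no vector of a finite set. -/
theorem exists_generic (D : Set (κ → ℤ)) (hD : D.Finite) :
    ∃ c : κ → ℤ, ∀ v ∈ D, v ≠ 0 → ∑ᶠ k, c k * v k ≠ 0 := by
  classical
  let _ : Fintype κ := Fintype.ofFinite κ
  let en := Fintype.equivFin κ
  let P : (κ → ℤ) → Polynomial ℤ := fun v => ∑ k, Polynomial.monomial (en k : ℕ) (v k)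
  have hP : ∀ v, v ≠ 0 → P v ≠ 0 := by
    intro v hv h
    apply hv
    funext k
    have h1 := congrArg (fun p => Polynomial.coeff p (en k : ℕ)) h
    simp only [P, Polynomial.finsetSum_coeff, Polynomial.coeff_monomial, Polynomial.coeff_zero] at h1
    rw [Finset.sum_eq_single k] at h1
    · rw [if_pos rfl] at h1
      exact h1
    · intro j _ hj
      rw [if_neg]
      intro h2
      exact hj (en.injective (Fin.ext h2))
    · intro h2
      exact absurd (Finset.mem_univ _) h2
  let Q : Polynomial ℤ := ∏ v ∈ hD.toFinset.filter (fun v => v ≠ 0), P v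
  have hQ : Q ≠ 0 := Finset.prod_ne_zero_iff.2 fun v hv => hP v (Finset.mem_filter.1 hv).2
  obtain ⟨x, hx⟩ := Infinite.exists_notMem_finset Q.roots.toFinset
  refine ⟨fun k => x ^ (en k : ℕ), fun v hv hv0 h => ?_⟩
  rw [finsum_eq_sum_of_fintype] at h
  apply hx
  rw [Multiset.mem_toFinset, Polynomial.mem_roots hQ, Polynomial.IsRoot.def, Polynomial.eval_prod]
  apply Finset.prod_eq_zero (Finset.mem_filter.2 ⟨hD.mem_toFinset.2 hv, hv0⟩)
  simp only [P, Polynomial.eval_finsetSum, Polynomial.eval_monomial]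
  rw [← h]
  exact Finset.sum_congr rfl fun k _ => mul_comm _ _

/-- Two finite families of integral vectors with the same numbers of zeros of all affine functionals. -/
theorem exists_equiv_of_card {ι ι' : Type*} [Finite ι] [Finite ι'] (T : ι → κ → ℤ) (T' : ι' → κ → ℤ)
    (h0 : Nat.card ι = Nat.card ι')
    (h : ∀ (c : κ → ℤ) (β : ℤ), Nat.card {i // ∑ᶠ k, c k * T i k + β ≠ 0} =
      Nat.card {i // ∑ᶠ k, c k * T' i k + β ≠ 0}) :
    ∃ e : ι ≃ ι', ∀ i, T i = T' (e i) := by
  classical
  let _ : Fintype κ := Fintype.ofFinite κ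
  have hfib : ∀ p : κ → ℤ, Nonempty ({i // T i = p} ≃ {i // T' i = p}) := by
    intro p
    obtain ⟨c, hc⟩ := exists_generic (Set.range (fun i => T i - p) ∪ Set.range (fun i => T' i - p))
      ((Set.finite_range _).union (Set.finite_range _))
    have h1 : ∀ v : κ → ℤ, ∑ᶠ k, c k * v k + (-∑ᶠ k, c k * p k) = ∑ᶠ k, c k * (v - p) k := by
      intro v
      rw [finsum_eq_sum_of_fintype, finsum_eq_sum_of_fintype, finsum_eq_sum_of_fintype, ← Finset.sum_neg_distrib,
        ← Finset.sum_add_distrib]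
      refine Finset.sum_congr rfl fun k _ => ?_
      rw [Pi.sub_apply]
      ring
    have h2 : ∀ i, (∑ᶠ k, c k * T i k + (-∑ᶠ k, c k * p k) ≠ 0) ↔ ¬ T i = p := by
      intro i
      rw [h1]
      constructor
      · intro h3 h4
        apply h3
        rw [h4, finsum_eq_sum_of_fintype]
        exact Finset.sum_eq_zero fun k _ => by rw [Pi.sub_apply, sub_self, mul_zero]
      · intro h3
        exact hc _ (Or.inl ⟨i, rfl⟩) (sub_ne_zero.2 h3)
    have h2' : ∀ i, (∑ᶠ k, c k * T' i k + (-∑ᶠ k, c k * p k) ≠ 0) ↔ ¬ T' i = p := by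
      intro i
      rw [h1]
      constructor
      · intro h3 h4
        apply h3
        rw [h4, finsum_eq_sum_of_fintype]
        exact Finset.sum_eq_zero fun k _ => by rw [Pi.sub_apply, sub_self, mul_zero]
      · intro h3
        exact hc _ (Or.inr ⟨i, rfl⟩) (sub_ne_zero.2 h3)
    have h3 := h c (-∑ᶠ k, c k * p k)
    rw [Nat.card_congr (Equiv.subtypeEquivRight h2), Nat.card_congr (Equiv.subtypeEquivRight h2')] at h3
    have h4 : ∀ {α : Type _} [Finite α] (q : α → Prop), Nat.card {a // q a} + Nat.card {a // ¬ q a} = Nat.card α := by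
      intro α _ q
      let _ : Fintype α := Fintype.ofFinite α
      rw [Nat.card_eq_fintype_card, Nat.card_eq_fintype_card, Nat.card_eq_fintype_card, Fintype.card_subtype_compl]
      have := Fintype.card_subtype_le q
      omega
    have h5 := h4 (fun i => T i = p)
    have h5' : Nat.card {a // T' a = p} + Nat.card {a // ¬ T' a = p} = Nat.card ι' := by
      let _ : Fintype ι' := Fintype.ofFinite ι'
      rw [Nat.card_eq_fintype_card, Nat.card_eq_fintype_card, Nat.card_eq_fintype_card, Fintype.card_subtype_compl]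
      have := Fintype.card_subtype_le (fun a => T' a = p)
      omega
    exact (Finite.card_eq (α := {i // T i = p}) (β := {i // T' i = p})).1 (by omega)
  let f := fun p => (hfib p).some
  refine ⟨((Equiv.sigmaFiberEquiv T).symm.trans (Equiv.sigmaCongrRight f)).trans (Equiv.sigmaFiberEquiv T'), fun i => ?_⟩
  exact ((f (T i) ⟨i, rfl⟩).2).symm

end Comb

/-! ### Complete systems of idempotents of the centre -/

section Sys

variable {I W : Type*} {M : CoxeterMatrix I} [Group W] (cs : CoxeterSystem M W) [Fintype W] [DecidableEq W]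

/-- A complete system of orthogonal idempotents of the centre. -/
structure Sys (t : Wt cs) {ι : Type*} (z : ι → W → ℂ) : Prop where
  mem : ∀ i, z i ∈ Z cs t
  idem : ∀ i, Lm cs t (z i) (z i) = z i
  orth : ∀ i j, i ≠ j → Lm cs t (z i) (z j) = 0
  ne : ∀ i, z i ≠ 0
  card : Nat.card ι = finrank ℂ (Z cs t)

/-- The type. -/
noncomputable def typ (t : Wt cs) (v : W → ℂ) (J : Set I) : ℕ :=
  finrank ℂ (LinearMap.range (Lm cs t v * Lm cs t (eJ cs t J)))

variable {cs} {t : Wt cs}

theorem trace_typ {v : W → ℂ} (hv : v ∈ Z cs t) (hi : Lm cs t v v = v) (J : Set I) :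
    LinearMap.trace ℂ (W → ℂ) (Lm cs t v * Lm cs t (eJ cs t J)) = (typ cs t v J : ℂ) := by
  unfold typ
  apply trace_idem
  have h3 : Lm cs t (eJ cs t J) * Lm cs t v = Lm cs t v * Lm cs t (eJ cs t J) := (Lm_comm cs t hv _).symm
  rw [mul_assoc, ← mul_assoc (Lm cs t (eJ cs t J)), h3, mul_assoc, eJ_idem, ← mul_assoc, ← Lm_Lm, hi]

theorem trace_typ' {v : W → ℂ} (hv : v ∈ Z cs t) (hi : Lm cs t v v = v) (J : Set I) :
    LinearMap.trace ℂ (W → ℂ) (Lm cs t (Lm cs t v (eJ cs t J))) = (typ cs t v J : ℂ) := by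
  rw [Lm_Lm, trace_typ hv hi]

namespace Sys

variable {ι : Type*} {z : ι → W → ℂ} (hz : Sys cs t z)

include hz

theorem sum_apply [Fintype ι] (a : ι → ℂ) (i : ι) : Lm cs t (z i) (∑ j, a j • z j) = a i • z i := by
  rw [map_sum, Finset.sum_eq_single i]
  · rw [map_smul, hz.idem]
  · intro j _ hj
    rw [map_smul, hz.orth i j (Ne.symm hj), smul_zero]
  · intro h
    exact absurd (Finset.mem_univ _) h

theorem li [Finite ι] : LinearIndependent ℂ z := by
  let _ : Fintype ι := Fintype.ofFinite ι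
  rw [Fintype.linearIndependent_iff]
  intro a h i
  have h1 := hz.sum_apply a i
  rw [h, map_zero] at h1
  exact (smul_eq_zero.1 h1.symm).resolve_right (hz.ne i)

theorem span_eq [Finite ι] : Submodule.span ℂ (Set.range z) = Z cs t := by
  let _ : Fintype ι := Fintype.ofFinite ι
  apply Submodule.eq_of_le_of_finrank_eq
  · rw [Submodule.span_le]
    rintro _ ⟨i, rfl⟩
    exact hz.mem i
  · rw [finrank_span_eq_card hz.li, ← hz.card, Nat.card_eq_fintype_card]

theorem exists_sum [Fintype ι] {v : W → ℂ} (hv : v ∈ Z cs t) : ∃ a : ι → ℂ, v = ∑ j, a j • z j := by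
  rw [← hz.span_eq, Submodule.mem_span_range_iff_exists_fun] at hv
  obtain ⟨a, ha⟩ := hv
  exact ⟨a, ha.symm⟩

theorem apply_mem [Finite ι] {v : W → ℂ} (hv : v ∈ Z cs t) (i : ι) : ∃ a : ℂ, Lm cs t (z i) v = a • z i := by
  let _ : Fintype ι := Fintype.ofFinite ι
  obtain ⟨a, ha⟩ := hz.exists_sum hv
  exact ⟨a i, by rw [ha, hz.sum_apply]⟩

theorem map_eq [Finite ι] (i : ι) : (Z cs t).map (Lm cs t (z i)) = Submodule.span ℂ {z i} := by
  apply le_antisymm
  · rintro _ ⟨v, hv, rfl⟩
    obtain ⟨a, ha⟩ := hz.apply_mem hv i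
    rw [ha]
    exact Submodule.smul_mem _ _ (Submodule.mem_span_singleton_self _)
  · rw [Submodule.span_singleton_le_iff_mem]
    exact ⟨z i, hz.mem i, hz.idem i⟩

theorem trace_Pz [Finite ι] (i : ι) : LinearMap.trace ℂ (W → ℂ) (Lm cs t (z i) * Pz cs t) = 1 := by
  rw [trace_idem]
  · rw [Module.End.mul_eq_comp, LinearMap.range_comp, range_Pz, hz.map_eq, finrank_span_singleton (hz.ne i),
      Nat.cast_one]
  · rw [mul_assoc, ← mul_assoc (Pz cs t), Pz_comm cs t (hz.mem i), mul_assoc, Pz_idem, ← mul_assoc, ← Lm_Lm,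
      hz.idem]

/-- The eigenvalue of `X` on `z i`. -/
theorem exists_eigen [Finite ι] (S : Finset (Set I)) (c : Set I → ℤ) (β : ℤ) (i : ι) :
    ∃ μ : ℂ, Xo cs t S c β (z i) = μ • z i ∧
      μ * (finrank ℂ (LinearMap.range (Lm cs t (z i))) : ℂ) = ((∑ J ∈ S, c J * (typ cs t (z i) J : ℤ) + β : ℤ) : ℂ) := by
  have hX : ∀ i, Xo cs t S c β (z i) ∈ Z cs t := fun i => Xk_mem_Z cs t 3 (Yc_mem cs t S c β) (hz.mem i)
  have hXR : ∀ ω, Xo cs t S c β * RR cs t ω = RR cs t ω * Xo cs t S c β := by
    intro ω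
    induction ω with
    | nil => rw [RR_nil, one_mul, mul_one]
    | cons i ω ih =>
      have h := Xk_R cs t 3 (Yc cs t S c β) i
      have h' : Xo cs t S c β * R cs t i = R cs t i * Xo cs t S c β := h
      rw [RR_cons, ← mul_assoc, h', mul_assoc, ih, mul_assoc]
  have hXLm : Xo cs t S c β = Lm cs t (Xo cs t S c β (e 1)) := eq_Lm cs t hXR
  have hcomm : Lm cs t (z i) * Xo cs t S c β = Xo cs t S c β * Lm cs t (z i) := by
    rw [hXLm]
    exact Lm_comm cs t (hz.mem i) _
  obtain ⟨μ, hμ⟩ := hz.apply_mem (hX i) i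
  have h1 : Xo cs t S c β (z i) = μ • z i := by
    rw [← hμ, ← Module.End.mul_apply, hcomm, Module.End.mul_apply, hz.idem]
  refine ⟨μ, h1, ?_⟩
  have h2 : Xo cs t S c β * Lm cs t (z i) = μ • Lm cs t (z i) := by
    have h3 := eq_Lm cs t (a := Xo cs t S c β * Lm cs t (z i)) fun ω => by
      rw [mul_assoc, Lm_RR, ← mul_assoc, hXR, mul_assoc]
    rw [h3, Module.End.mul_apply, Lm_e_one, h1, Lm_smul]
  have h4 := trace_X cs t S c β (hz.mem i)
  rw [hcomm, h2, map_smul, smul_eq_mul, hz.trace_Pz, mul_one, trace_idem] at h4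
  · rw [h4, Finset.sum_congr rfl fun J _ => by rw [trace_typ (hz.mem i) (hz.idem i) J]]
    push_cast
    rfl
  · rw [← Lm_Lm, hz.idem]

/-- **The number of the `i` with `∑ c_J typ_i(J) + β ≠ 0`** is a rank. -/
theorem card_ne [Finite ι] (S : Finset (Set I)) (c : Set I → ℤ) (β : ℤ) :
    Nat.card {i // ∑ J ∈ S, c J * (typ cs t (z i) J : ℤ) + β ≠ 0} =
      finrank ℂ ((Z cs t).map (Lm cs t (Yc cs t S c β))) := by
  classical
  let _ : Fintype ι := Fintype.ofFinite ι
  choose μ hμ hμ' using fun i => hz.exists_eigen S c β i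
  have hr : ∀ i, (finrank ℂ (LinearMap.range (Lm cs t (z i))) : ℂ) ≠ 0 := by
    intro i h
    have h1 : finrank ℂ (LinearMap.range (Lm cs t (z i))) = 0 := by exact_mod_cast h
    rw [Submodule.finrank_eq_zero, LinearMap.range_eq_bot] at h1
    apply hz.ne i
    rw [← Lm_e_one cs t (z i), h1, LinearMap.zero_apply]
  have hiff : ∀ i, (∑ J ∈ S, c J * (typ cs t (z i) J : ℤ) + β ≠ 0) ↔ μ i ≠ 0 := by
    intro i
    rw [not_iff_not]
    constructor
    · intro h
      have h1 := hμ' i
      rw [h, Int.cast_zero] at h1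
      exact (mul_eq_zero.1 h1).resolve_right (hr i)
    · intro h
      have h1 := hμ' i
      rw [h, zero_mul] at h1
      exact_mod_cast h1.symm
  rw [Nat.card_congr (Equiv.subtypeEquivRight hiff), finrank_map_Y cs t 3]
  have hspan : (Z cs t).map (Ci cs t ^ 3 * Lm cs t (Yc cs t S c β)) =
      Submodule.span ℂ (Set.range fun i : {i // μ i ≠ 0} => z i) := by
    apply le_antisymm
    · rintro _ ⟨v, hv, rfl⟩
      obtain ⟨a, ha⟩ := hz.exists_sum hv
      rw [ha, map_sum]
      refine Submodule.sum_mem _ fun j _ => ?_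
      rw [map_smul]
      apply Submodule.smul_mem
      have h1 : (Ci cs t ^ 3 * Lm cs t (Yc cs t S c β)) (z j) = μ j • z j := hμ j
      rw [h1]
      by_cases h : μ j = 0
      · rw [h, zero_smul]
        exact Submodule.zero_mem _
      · exact Submodule.smul_mem _ _ (Submodule.subset_span ⟨⟨j, h⟩, rfl⟩)
    · rw [Submodule.span_le]
      rintro _ ⟨i, rfl⟩
      refine ⟨(μ i.1)⁻¹ • z i.1, Submodule.smul_mem _ _ (hz.mem _), ?_⟩
      have h1 : (Ci cs t ^ 3 * Lm cs t (Yc cs t S c β)) (z i.1) = μ i.1 • z i.1 := hμ i.1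
      rw [map_smul, h1, smul_smul, inv_mul_cancel₀ i.2, one_smul]
  have hli : LinearIndependent ℂ (fun i : {i // μ i ≠ 0} => z i.1) := hz.li.comp _ Subtype.val_injective
  rw [hspan, finrank_span_eq_card hli, Nat.card_eq_fintype_card]

end Sys

end Sys

/-! ### The strong form -/

section Strong

variable {I W : Type*} {M : CoxeterMatrix I} [Group W] {cs : CoxeterSystem M W} [Fintype W] [DecidableEq W]

theorem strong_smul [Finite I] (τ : Wt cs) (s s' : ℝ) {ι ι' : Type*} [Finite ι] [Finite ι'] {z : ι → W → ℂ}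
    {z' : ι' → W → ℂ} (hz : Sys cs (τ.smul s) z) (hz' : Sys cs (τ.smul s') z') :
    ∃ e : ι ≃ ι', ∀ i J, typ cs (τ.smul s) (z i) J = typ cs (τ.smul s') (z' (e i)) J := by
  classical
  let _ : Fintype I := Fintype.ofFinite I
  obtain ⟨e, he⟩ := exists_equiv_of_card (κ := Set I) (fun i J => (typ cs (τ.smul s) (z i) J : ℤ))
    (fun i J => (typ cs (τ.smul s') (z' i) J : ℤ)) (by rw [hz.card, hz'.card, finrank_Z_const cs τ s s'])
    (fun c β => by
      simp only [finsum_eq_sum_of_fintype]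
      rw [hz.card_ne Finset.univ c β, hz'.card_ne Finset.univ c β, rkX_const cs τ Finset.univ c β s s'])
  refine ⟨e, fun i J => ?_⟩
  have h := congrFun (he i) J
  exact_mod_cast h

/-- **The strong form of Tits' deformation theorem**: for complete systems of idempotents of the centres of the Hecke
algebra with the weight `t` and of the group algebra of `W` (`t₀ = 0`), there is a bijection preserving the ranks of
all `z e_J`. -/
theorem strong [Finite I] {t t₀ : Wt cs} (h₀ : ∀ w, t₀.m w = 0) {ι ι' : Type*} [Finite ι] [Finite ι']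
    {z : ι → W → ℂ} {z' : ι' → W → ℂ} (hz : Sys cs t z) (hz' : Sys cs t₀ z') :
    ∃ e : ι ≃ ι', ∀ i J, typ cs t (z i) J = typ cs t₀ (z' (e i)) J := by
  have ht : t₀ = t.smul 0 := by
    cases t₀ with
    | mk m one mul =>
      have : m = (t.smul 0).m := by
        funext w
        rw [smul_zero_m]
        exact h₀ w
      subst this
      rfl
  subst ht
  have h1 : Sys cs (t.smul 1) z := by rw [smul_one]; exact hz
  obtain ⟨e, he⟩ := strong_smul t 1 0 h1 hz'
  refine ⟨e, fun i J => ?_⟩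
  rw [← he i J, smul_one]

/-- The same with traces. -/
theorem strong_trace [Finite I] {t t₀ : Wt cs} (h₀ : ∀ w, t₀.m w = 0) {ι ι' : Type*} [Finite ι] [Finite ι']
    {z : ι → W → ℂ} {z' : ι' → W → ℂ} (hz : Sys cs t z) (hz' : Sys cs t₀ z') :
    ∃ e : ι ≃ ι', ∀ i J, LinearMap.trace ℂ (W → ℂ) (Lm cs t (Lm cs t (z i) (eJ cs t J))) =
      LinearMap.trace ℂ (W → ℂ) (Lm cs t₀ (Lm cs t₀ (z' (e i)) (eJ cs t₀ J))) := by
  obtain ⟨e, he⟩ := strong h₀ hz hz'
  refine ⟨e, fun i J => ?_⟩
  rw [trace_typ' (hz.mem i) (hz.idem i), trace_typ' (hz'.mem _) (hz'.idem _), he i J]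

end Strong

end Cfsg.Agent.H157.HK
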