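import Cfsg.Agent.H157.HK.D

/-!
# The parabolic idempotents, and the constancy of the rank (helper157)

* `eJ cs t J` : the idempotent of the parabolic subgroup `W_J`; `eJ_idem`, `eJ_sa`, `continuous_eJ`;
* `rank_const` : for integers `c J`, `ε_s = ∑ c_J e_J(s)`, the rank of `v ↦ Cas_s(ε_s) Cas_s(v)` (that is the number of
  the irreducible representations `φ` of the Hecke algebra with `∑ c_J dim φ^{e_J} ≠ 0`) does not depend on `s`.
-/

set_option autoImplicit false
set_option linter.unusedSectionVars false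

namespace Cfsg.Agent.H157.HK

open CoxeterSystem Cfsg.Agent.Tits.Exchange Cfsg.Agent.Tits.Core Module Filter Topology
open scoped ComplexConjugate

variable {I W : Type*} {M : CoxeterMatrix I} [Group W] (cs : CoxeterSystem M W) [Fintype W]

/-! ### The parabolic idempotents -/

section EJ

variable (t : Wt cs) (J : Set I)

open Classical in
/-- The Poincare polynomial. -/
noncomputable def pJ : ℝ := ∑ x : W, if x ∈ WJ cs J then t.f x else 0

open Classical in
/-- The parabolic idempotent. -/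
noncomputable def eJ : W → ℂ := fun w => if w ∈ WJ cs J then ((pJ cs t J : ℝ) : ℂ)⁻¹ else 0

open Classical in
/-- The indicator function of `W_J`. -/
noncomputable def iJ : W → ℂ := fun w => if w ∈ WJ cs J then 1 else 0

theorem pJ_pos : 0 < pJ cs t J := by
  classical
  unfold pJ
  refine Finset.sum_pos' (fun x _ => ?_) ⟨1, Finset.mem_univ _, ?_⟩
  · split_ifs
    · exact (t.f_pos x).le
    · exact le_rfl
  · rw [if_pos (one_mem _)]
    exact t.f_pos 1

theorem pJ_ne : ((pJ cs t J : ℝ) : ℂ) ≠ 0 := by exact_mod_cast (pJ_pos cs t J).ne'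

theorem eJ_eq : eJ cs t J = ((pJ cs t J : ℝ) : ℂ)⁻¹ • iJ cs J := by
  classical
  funext w
  unfold eJ iJ
  rw [Pi.smul_apply, smul_eq_mul]
  split_ifs <;> simp

theorem L_iJ {i : I} (hi : i ∈ J) : L cs t i (iJ cs J) = (t.p i : ℂ) • iJ cs J := by
  classical
  funext x
  have h1 : iJ cs J (cs.simple i * x) = iJ cs J x := by
    unfold iJ
    have : cs.simple i * x ∈ WJ cs J ↔ x ∈ WJ cs J := Subgroup.mul_mem_cancel_left _ (simple_mem_WJ cs hi)
    by_cases h : x ∈ WJ cs J
    · rw [if_pos h, if_pos (this.2 h)]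
    · rw [if_neg h, if_neg fun h' => h (this.1 h')]
  rw [L_apply, h1, Pi.smul_apply, smul_eq_mul]
  split_ifs <;> ring

theorem LL_iJ {ω : List I} (hω : cs.IsReduced ω) (h : ∀ i ∈ ω, i ∈ J) :
    LL cs t ω (iJ cs J) = ((t.f (cs.wordProd ω) : ℝ) : ℂ) • iJ cs J := by
  induction ω with
  | nil => rw [LL_nil, Module.End.one_apply, wordProd_nil, t.f_one, Complex.ofReal_one, one_smul]
  | cons i ω ih =>
    have h1 := reduced_tail cs hω
    rw [LL_cons, Module.End.mul_apply, ih h1 fun j hj => h j (List.mem_cons_of_mem _ hj), map_smul,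
      L_iJ cs t J (h i List.mem_cons_self), smul_smul, wordProd_cons, t.f_mul (Wt.lt_cons hω), Complex.ofReal_mul,
      mul_comm]

theorem LL_wd_iJ {w : W} (hw : w ∈ WJ cs J) : LL cs t (wd cs w) (iJ cs J) = ((t.f w : ℝ) : ℂ) • iJ cs J := by
  classical
  obtain ⟨ω, hω, hJ, hw'⟩ : ∃ ω : List I, cs.IsReduced ω ∧ (∀ i ∈ ω, i ∈ J) ∧ cs.wordProd ω = w := by
    obtain ⟨ω, h1, h2, h3⟩ := exists_reduced_of_mem_WJ cs hw
    exact ⟨ω, h2, h1, h3⟩
  have h1 : LL cs t (wd cs w) = LL cs t ω := by
    rw [LL_wd, LL_eq cs t hω, hw']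
  rw [h1, LL_iJ cs t J hω hJ, hw']

theorem Lm_iJ : Lm cs t (iJ cs J) (iJ cs J) = ((pJ cs t J : ℝ) : ℂ) • iJ cs J := by
  classical
  unfold Lm
  rw [LinearMap.sum_apply]
  have h1 : ∀ w : W, (iJ cs J w • LL cs t (wd cs w)) (iJ cs J) =
      ((if w ∈ WJ cs J then t.f w else 0 : ℝ) : ℂ) • iJ cs J := by
    intro w
    rw [LinearMap.smul_apply]
    by_cases h : w ∈ WJ cs J
    · rw [LL_wd_iJ cs t J h, if_pos h]
      have h2 : iJ cs J w = 1 := by unfold iJ; rw [if_pos h]
      rw [h2, one_smul]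
    · have h2 : iJ cs J w = 0 := by unfold iJ; rw [if_neg h]
      rw [h2, zero_smul, if_neg h, Complex.ofReal_zero, zero_smul]
  rw [Finset.sum_congr rfl fun w _ => h1 w, ← Finset.sum_smul, ← Complex.ofReal_sum]
  rfl

theorem eJ_mul : Lm cs t (eJ cs t J) (eJ cs t J) = eJ cs t J := by
  rw [eJ_eq, Lm_smul, LinearMap.smul_apply, map_smul, Lm_iJ, smul_smul, smul_smul, mul_assoc,
    inv_mul_cancel₀ (pJ_ne cs t J), mul_one]

theorem eJ_idem : Lm cs t (eJ cs t J) * Lm cs t (eJ cs t J) = Lm cs t (eJ cs t J) := by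
  classical
  rw [← Lm_Lm, eJ_mul]

/-- The adjoint of `Lm (e w)`. -/
theorem ip_Lm_e [DecidableEq W] (w : W) (u v : W → ℂ) :
    ip cs t (Lm cs t (e w) u) v = ip cs t u (Lm cs t (e w⁻¹) v) := by
  rw [← LL_wd, ip_LL, LL_rev]

theorem Lm_iJ_eq [DecidableEq W] [DecidablePred (· ∈ WJ cs J)] :
    Lm cs t (iJ cs J) = ∑ w, if w ∈ WJ cs J then Lm cs t (e w) else 0 := by
  have h0 : Lm cs t (iJ cs J) = ∑ w, iJ cs J w • LL cs t (wd cs w) := rfl
  rw [h0]
  refine Finset.sum_congr rfl fun w _ => ?_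
  by_cases h : w ∈ WJ cs J
  · rw [if_pos h, ← LL_wd]
    have h2 : iJ cs J w = 1 := by unfold iJ; rw [if_pos h]
    rw [h2, one_smul]
  · have h2 : iJ cs J w = 0 := by unfold iJ; rw [if_neg h]
    rw [h2, zero_smul, if_neg h]

theorem iJ_sa : SA cs t (Lm cs t (iJ cs J)) := by
  classical
  intro u v
  rw [Lm_iJ_eq, LinearMap.sum_apply, LinearMap.sum_apply, ip_sum_left, ip_sum_right]
  refine Fintype.sum_equiv (Equiv.inv W) _ _ fun w => ?_
  rw [Equiv.inv_apply]
  by_cases h : w ∈ WJ cs J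
  · rw [if_pos h, if_pos (inv_mem h), ip_Lm_e]
  · rw [if_neg h, if_neg fun h' => h (by simpa using inv_mem h'), LinearMap.zero_apply, LinearMap.zero_apply]
    unfold ip
    simp

theorem eJ_sa : SA cs t (Lm cs t (eJ cs t J)) := by
  rw [eJ_eq, Lm_smul]
  have h := (iJ_sa cs t J).smul (pJ cs t J)⁻¹
  rwa [Complex.ofReal_inv] at h

end EJ

/-! ### Continuity -/

section Cont

variable (τ : Wt cs)

theorem continuous_Lm {x y : ℝ → W → ℂ} (hx : Continuous x) (hy : Continuous y) :
    Continuous fun s : ℝ => Lm cs (τ.smul s) (x s) (y s) := by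
  have h0 : (fun s : ℝ => Lm cs (τ.smul s) (x s) (y s)) =
      fun s : ℝ => ∑ w : W, x s w • LL cs (τ.smul s) (wd cs w) (y s) := by
    funext s
    unfold Lm
    rw [LinearMap.sum_apply]
    rfl
  rw [h0]
  refine continuous_finsetSum _ fun w _ => ?_
  have h2 : Continuous fun s : ℝ => LL cs (τ.smul s) (wd cs w) (y s) :=
    Continuous.comp (g := fun p : ℝ × (W → ℂ) => LL cs (τ.smul p.1) (wd cs w) p.2) (f := fun s : ℝ => (s, y s))
      (continuous_LL cs τ _) (continuous_id.prodMk hy)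
  exact ((continuous_apply w).comp hx).smul h2

theorem continuous_CasC {y : ℝ → W → ℂ} (hy : Continuous y) :
    Continuous fun s : ℝ => Cas cs (τ.smul s) (y s) := by
  have h0 : (fun s : ℝ => Cas cs (τ.smul s) (y s)) =
      fun s : ℝ => ∑ w : W, (((τ.smul s).f w : ℝ) : ℂ)⁻¹ • A cs (τ.smul s) w (y s) := by
    funext s
    unfold Cas
    rw [LinearMap.sum_apply]
    rfl
  rw [h0]
  refine continuous_finsetSum _ fun w _ => ?_
  have h1 : Continuous fun s : ℝ => (((τ.smul s).f w : ℝ) : ℂ)⁻¹ :=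
    Continuous.inv₀ (continuous_f cs τ w) fun s => by
      exact_mod_cast ((τ.smul s).f_pos w).ne'
  have h2 : Continuous fun s : ℝ => A cs (τ.smul s) w (y s) :=
    Continuous.comp (g := fun p : ℝ × (W → ℂ) => A cs (τ.smul p.1) w p.2) (f := fun s : ℝ => (s, y s))
      (continuous_A cs τ _) (continuous_id.prodMk hy)
  exact h1.smul h2

theorem continuous_eJ (J : Set I) : Continuous fun s : ℝ => eJ cs (τ.smul s) J := by
  classical
  refine continuous_pi fun w => ?_
  unfold eJ
  by_cases h : w ∈ WJ cs J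
  · simp only [if_pos h]
    refine Continuous.inv₀ ?_ fun s => pJ_ne cs _ J
    unfold pJ
    simp only [Complex.ofReal_sum]
    refine continuous_finsetSum _ fun x _ => ?_
    by_cases hx : x ∈ WJ cs J
    · simp only [if_pos hx]
      exact continuous_f cs τ x
    · simp only [if_neg hx]
      exact continuous_const
  · simp only [if_neg h]
    exact continuous_const

end Cont

/-! ### The main theorem -/

section Main

variable [DecidableEq W] (τ : Wt cs)

/-- The element `∑ c_J e_J`. -/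
noncomputable def eps (t : Wt cs) (S : Finset (Set I)) (c : Set I → ℤ) : W → ℂ :=
  ∑ J ∈ S, (c J : ℂ) • eJ cs t J

theorem continuous_eps (S : Finset (Set I)) (c : Set I → ℤ) : Continuous fun s : ℝ => eps cs (τ.smul s) S c := by
  unfold eps
  refine continuous_finsetSum _ fun J _ => ?_
  have h := continuous_eJ cs τ J
  exact continuous_pi fun w => continuous_const.mul ((continuous_apply w).comp h)

theorem eps_sa (t : Wt cs) (S : Finset (Set I)) (c : Set I → ℤ) : SA cs t (Lm cs t (eps cs t S c)) := by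
  unfold eps
  rw [Lm_sum]
  refine SA.sum _ fun J _ => ?_
  rw [Lm_smul]
  have h := (eJ_sa cs t J).smul (c J : ℝ)
  rwa [Complex.ofReal_intCast] at h

/-- The finite set containing all the eigenvalues. -/
noncomputable def Fs (W : Type*) [Fintype W] {I : Type*} (S : Finset (Set I)) (c : Set I → ℤ) : Finset ℂ :=
  ((Finset.Icc (-((∑ J ∈ S, |c J|) * (Fintype.card W : ℤ))) ((∑ J ∈ S, |c J|) * (Fintype.card W : ℤ))) ×ˢ
    (Finset.Icc 1 (Fintype.card W))).image (fun p : ℤ × ℕ => (p.1 : ℂ) / (p.2 : ℂ))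

theorem eigen_mem_Fs (t : Wt cs) (S : Finset (Set I)) (c : Set I → ℤ) {μ : ℂ} {v : W → ℂ} (hv0 : v ≠ 0)
    (hv : U cs t (eps cs t S c) v = μ • v) : μ ∈ Fs W S c := by
  obtain ⟨a, b, hb, hbW, ha, hμ⟩ := eigen_mem cs t S c (eJ cs t) (fun J _ => eJ_idem cs t J)
    (fun J _ => eJ_sa cs t J) hv0 hv
  unfold Fs
  rw [Finset.mem_image]
  refine ⟨(a, b), ?_, hμ.symm⟩
  rw [Finset.mem_product, Finset.mem_Icc, Finset.mem_Icc]
  exact ⟨abs_le.1 ha, hb, hbW⟩

/-- The list of the nonzero possible eigenvalues. -/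
noncomputable def Fl (W : Type*) [Fintype W] {I : Type*} (S : Finset (Set I)) (c : Set I → ℤ) : List ℂ :=
  ((Fs W S c).erase 0).toList

/-- The rank. -/
noncomputable def rk (t : Wt cs) (S : Finset (Set I)) (c : Set I → ℤ) : ℕ :=
  finrank ℂ (LinearMap.range (Lm cs t (Cas cs t (eps cs t S c)) * Cas cs t))

theorem range_Cas (t : Wt cs) : LinearMap.range (Cas cs t) = Z cs t :=
  Submodule.eq_of_le_of_finrank_eq (range_Cas_le cs t) (finrank_range_Cas cs t)

theorem range_mul_Cas (t : Wt cs) (a : Module.End ℂ (W → ℂ)) :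
    LinearMap.range (a * Cas cs t) = (Z cs t).map a := by
  rw [← range_Cas, Module.End.mul_eq_comp, LinearMap.range_comp]

theorem finrank_map_mul (t : Wt cs) (k : ℕ) (a : Module.End ℂ (W → ℂ)) :
    finrank ℂ ((Z cs t).map (Lm cs t (cz cs t) ^ k * a)) = finrank ℂ ((Z cs t).map a) := by
  have h1 : Function.Injective (Lm cs t (cz cs t) ^ k) := by
    rw [Module.End.coe_pow]
    exact (Lm_cz_injective cs t).iterate k
  rw [Module.End.mul_eq_comp, Submodule.map_comp]
  exact (LinearEquiv.finrank_eq (Submodule.equivMapOfInjective _ h1 _)).symm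

theorem rk_eq (t : Wt cs) (S : Finset (Set I)) (c : Set I → ℤ) :
    rk cs t S c = finrank ℂ ((Z cs t).map (U cs t (eps cs t S c))) := by
  unfold rk
  rw [range_mul_Cas, Lm_Cas_eq]
  have h := finrank_map_mul cs t 1 (U cs t (eps cs t S c))
  rwa [pow_one] at h

/-- The complementary operator. -/
noncomputable def Kc (t : Wt cs) (S : Finset (Set I)) (c : Set I → ℤ) (l : List ℂ) : Module.End ℂ (W → ℂ) :=
  (l.map fun x => Lm cs t (Cas cs t (eps cs t S c)) - x • Lm cs t (cz cs t)).prod

theorem Kc_eq (t : Wt cs) (S : Finset (Set I)) (c : Set I → ℤ) (l : List ℂ) :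
    Kc cs t S c l = Lm cs t (cz cs t) ^ l.length *
      (l.map fun x => U cs t (eps cs t S c) - x • (1 : Module.End ℂ (W → ℂ))).prod := by
  have hc : U cs t (eps cs t S c) * Lm cs t (cz cs t) = Lm cs t (cz cs t) * U cs t (eps cs t S c) := by
    rw [← Lm_Cas_eq]
    unfold U
    rw [mul_assoc, Lm_comm cs t (Cas_mem cs t _), ← mul_assoc, Ci_mul, one_mul]
  induction l with
  | nil =>
    unfold Kc
    rw [List.map_nil, List.prod_nil, List.length_nil, pow_zero, List.map_nil, List.prod_nil, mul_one]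
  | cons x l ih =>
    unfold Kc at ih ⊢
    rw [List.map_cons, List.prod_cons, ih, List.map_cons, List.prod_cons, List.length_cons, Lm_Cas_eq]
    have h1 : Lm cs t (cz cs t) * U cs t (eps cs t S c) - x • Lm cs t (cz cs t) =
        Lm cs t (cz cs t) * (U cs t (eps cs t S c) - x • (1 : Module.End ℂ (W → ℂ))) := by
      rw [mul_sub, mul_smul_comm, mul_one]
    have h2 : Commute (U cs t (eps cs t S c) - x • (1 : Module.End ℂ (W → ℂ))) (Lm cs t (cz cs t)) := by
      show _ * _ = _ * _
      rw [sub_mul, mul_sub, hc, smul_mul_assoc, one_mul, mul_smul_comm, mul_one]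
    rw [h1, pow_succ', mul_assoc (Lm cs t (cz cs t)), ← mul_assoc (U cs t (eps cs t S c) - _),
      (h2.pow_right l.length).eq]
    simp only [mul_assoc]

/-- The sum of the two ranks is the dimension of the centre. -/
theorem rk_add (t : Wt cs) (S : Finset (Set I)) (c : Set I → ℤ) :
    rk cs t S c + finrank ℂ (LinearMap.range (Kc cs t S c (Fl W S c) * Cas cs t)) = finrank ℂ (Z cs t) := by
  rw [rk_eq, range_mul_Cas, Kc_eq, finrank_map_mul]
  refine finrank_add (sa_U cs t (eps_sa cs t S c)).iSup_eq (fun v hv => U_mem_Z cs t _ hv) ?_ ?_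
  · unfold Fl
    rw [Finset.mem_toList]
    exact Finset.notMem_erase _ _
  · intro μ v hv0 hv hμ
    unfold Fl
    rw [Finset.mem_toList]
    exact Finset.mem_erase.2 ⟨hμ, eigen_mem_Fs cs t S c hv0 hv⟩

theorem continuous_Lz (S : Finset (Set I)) (c : Set I → ℤ) {y : ℝ → W → ℂ} (hy : Continuous y) :
    Continuous fun s : ℝ => Lm cs (τ.smul s) (Cas cs (τ.smul s) (eps cs (τ.smul s) S c)) (y s) :=
  continuous_Lm cs τ (continuous_CasC cs τ (continuous_eps cs τ S c)) hy

theorem continuous_Kc (S : Finset (Set I)) (c : Set I → ℤ) (l : List ℂ) {y : ℝ → W → ℂ} (hy : Continuous y) :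
    Continuous fun s : ℝ => Kc cs (τ.smul s) S c l (y s) := by
  induction l with
  | nil =>
    have : (fun s : ℝ => Kc cs (τ.smul s) S c [] (y s)) = y := by
      funext s
      unfold Kc
      rw [List.map_nil, List.prod_nil, Module.End.one_apply]
    rw [this]
    exact hy
  | cons x l ih =>
    have h1 : (fun s : ℝ => Kc cs (τ.smul s) S c (x :: l) (y s)) = fun s =>
        Lm cs (τ.smul s) (Cas cs (τ.smul s) (eps cs (τ.smul s) S c)) (Kc cs (τ.smul s) S c l (y s)) -
          x • Lm cs (τ.smul s) (cz cs (τ.smul s)) (Kc cs (τ.smul s) S c l (y s)) := by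
      funext s
      unfold Kc
      rw [List.map_cons, List.prod_cons, Module.End.mul_apply, LinearMap.sub_apply, LinearMap.smul_apply]
    rw [h1]
    have h2 : Continuous fun s : ℝ => cz cs (τ.smul s) := by
      unfold cz
      exact continuous_CasC cs τ continuous_const
    exact (continuous_Lz cs τ S c ih).sub ((continuous_Lm cs τ h2 ih).const_smul x)

theorem eventually_rk [Finite I] (S : Finset (Set I)) (c : Set I → ℤ) (s₀ : ℝ) :
    ∀ᶠ s in 𝓝 s₀, rk cs (τ.smul s) S c = rk cs (τ.smul s₀) S c := by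
  filter_upwards [H116.HeckeB.eventually_rank_le
      (fun s => Lm cs (τ.smul s) (Cas cs (τ.smul s) (eps cs (τ.smul s) S c)) * Cas cs (τ.smul s)) s₀
      fun v => (continuous_Lz cs τ S c (continuous_Cas' cs τ v)).continuousAt,
    H116.HeckeB.eventually_rank_le
      (fun s => Kc cs (τ.smul s) S c (Fl W S c) * Cas cs (τ.smul s)) s₀
      fun v => (continuous_Kc cs τ S c _ (continuous_Cas' cs τ v)).continuousAt] with s h1 h2
  have h3 := rk_add cs (τ.smul s) S c
  have h4 := rk_add cs (τ.smul s₀) S c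
  have h5 := finrank_Z_const cs τ s s₀
  have h1' : rk cs (τ.smul s₀) S c ≤ rk cs (τ.smul s) S c := h1
  omega

/-- **The rank does not depend on the parameter.** -/
theorem rk_const [Finite I] (S : Finset (Set I)) (c : Set I → ℤ) (s s' : ℝ) :
    rk cs (τ.smul s) S c = rk cs (τ.smul s') S c :=
  const_of_eventually (f := fun s => rk cs (τ.smul s) S c) (fun s₀ => eventually_rk cs τ S c s₀) s s'

/-- **The rank for a weight is the rank for the group algebra of `W`.** -/
theorem rk_eq_zero [Finite I] (S : Finset (Set I)) (c : Set I → ℤ) (t₀ : Wt cs) (h₀ : ∀ w, t₀.m w = 0) :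
    rk cs τ S c = rk cs t₀ S c := by
  have h1 := rk_const cs τ S c 1 0
  rw [smul_one] at h1
  rw [h1]
  congr 1
  cases t₀ with
  | mk m one mul =>
    have : m = (τ.smul 0).m := by
      funext w
      rw [smul_zero_m]
      exact h₀ w
    subst this
    rfl

end Main

end Cfsg.Agent.H157.HK
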