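import Cfsg.Agent.H157.HK.A
import Cfsg.Agent.H116.HeckeB

/-!
# Deformation of the Hecke algebra with unequal parameters (helper157)

`τ.smul s`, `s : ℝ`, is a path of weights: `s = 0` the group algebra of `W`, `s = 1` the weight `τ`.
-/

set_option autoImplicit false
set_option linter.unusedSectionVars false

namespace Cfsg.Agent.H157.HK

open CoxeterSystem Cfsg.Agent.Tits.Exchange Module Filter Topology

variable {I W : Type*} {M : CoxeterMatrix I} [Group W] (cs : CoxeterSystem M W) [Fintype W] (τ : Wt cs)

theorem continuous_p (i : I) : Continuous fun s : ℝ => (((τ.smul s).p i : ℝ) : ℂ) := by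
  unfold Wt.p
  simp only [Wt.smul_m]
  fun_prop

theorem continuous_f (w : W) : Continuous fun s : ℝ => (((τ.smul s).f w : ℝ) : ℂ) := by
  unfold Wt.f
  simp only [Wt.smul_m]
  fun_prop

theorem continuous_L (i : I) : Continuous fun p : ℝ × (W → ℂ) => L cs (τ.smul p.1) i p.2 := by
  have hp := (continuous_p cs τ i).comp (continuous_fst (X := ℝ) (Y := W → ℂ))
  refine continuous_pi fun x => ?_
  simp only [L_apply]
  split_ifs
  · exact (by fun_prop : Continuous fun p : ℝ × (W → ℂ) => p.2 (cs.simple i * x)).add
      ((hp.sub continuous_const).mul (by fun_prop))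
  · exact hp.mul (by fun_prop)

theorem continuous_R (i : I) : Continuous fun p : ℝ × (W → ℂ) => R cs (τ.smul p.1) i p.2 := by
  have hp := (continuous_p cs τ i).comp (continuous_fst (X := ℝ) (Y := W → ℂ))
  refine continuous_pi fun x => ?_
  simp only [R_apply]
  split_ifs
  · exact (by fun_prop : Continuous fun p : ℝ × (W → ℂ) => p.2 (x * cs.simple i)).add
      ((hp.sub continuous_const).mul (by fun_prop))
  · exact hp.mul (by fun_prop)

theorem continuous_LL (ω : List I) : Continuous fun p : ℝ × (W → ℂ) => LL cs (τ.smul p.1) ω p.2 := by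
  induction ω with
  | nil => simpa only [LL_nil, Module.End.one_apply] using continuous_snd
  | cons i ω ih =>
    simp only [LL_cons, Module.End.mul_apply]
    exact (continuous_L cs τ i).comp (continuous_fst.prodMk ih)

theorem continuous_RR (ω : List I) : Continuous fun p : ℝ × (W → ℂ) => RR cs (τ.smul p.1) ω p.2 := by
  induction ω with
  | nil => simpa only [RR_nil, Module.End.one_apply] using continuous_snd
  | cons i ω ih =>
    simp only [RR_cons, Module.End.mul_apply]
    exact (continuous_R cs τ i).comp (continuous_fst.prodMk ih)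

theorem continuous_A (w : W) : Continuous fun p : ℝ × (W → ℂ) => A cs (τ.smul p.1) w p.2 := by
  unfold A
  simp only [Module.End.mul_apply]
  exact (continuous_LL cs τ _).comp (continuous_fst.prodMk (continuous_RR cs τ _))

theorem continuous_A' (w : W) (v : W → ℂ) : Continuous fun s : ℝ => A cs (τ.smul s) w v :=
  Continuous.comp (g := fun p : ℝ × (W → ℂ) => A cs (τ.smul p.1) w p.2) (f := fun s : ℝ => (s, v))
    (continuous_A cs τ w) (continuous_id.prodMk continuous_const)

theorem continuous_LL' (ω : List I) (v : W → ℂ) : Continuous fun s : ℝ => LL cs (τ.smul s) ω v :=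
  Continuous.comp (g := fun p : ℝ × (W → ℂ) => LL cs (τ.smul p.1) ω p.2) (f := fun s : ℝ => (s, v))
    (continuous_LL cs τ ω) (continuous_id.prodMk continuous_const)

theorem continuous_RR' (ω : List I) (v : W → ℂ) : Continuous fun s : ℝ => RR cs (τ.smul s) ω v :=
  Continuous.comp (g := fun p : ℝ × (W → ℂ) => RR cs (τ.smul p.1) ω p.2) (f := fun s : ℝ => (s, v))
    (continuous_RR cs τ ω) (continuous_id.prodMk continuous_const)

theorem continuous_Cas' (v : W → ℂ) : Continuous (fun s : ℝ => Cas cs (τ.smul s) v) := by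
  have h0 : (fun s : ℝ => Cas cs (τ.smul s) v) =
      fun s : ℝ => ∑ w : W, (((τ.smul s).f w : ℝ) : ℂ)⁻¹ • A cs (τ.smul s) w v := by
    funext s
    unfold Cas
    rw [LinearMap.sum_apply]
    rfl
  rw [h0]
  refine continuous_finsetSum _ fun w _ => ?_
  have h1 : Continuous fun s : ℝ => (((τ.smul s).f w : ℝ) : ℂ)⁻¹ :=
    Continuous.inv₀ (continuous_f cs τ w) fun s => by
      exact_mod_cast ((τ.smul s).f_pos w).ne'
  exact h1.smul (continuous_A' cs τ w v)

/-- The operators whose common kernel is the centre. -/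
noncomputable def Mt [Fintype I] (t : Wt cs) : (W → ℂ) →ₗ[ℂ] (I → (W → ℂ)) := LinearMap.pi fun i => L cs t i - R cs t i

theorem ker_Mt [Fintype I] (t : Wt cs) : LinearMap.ker (Mt cs t) = Z cs t := LinearMap.ker_pi _

theorem continuous_Mt [Fintype I] (v : W → ℂ) : Continuous (fun s : ℝ => Mt cs (τ.smul s) v) := by
  refine continuous_pi fun i => ?_
  show Continuous (fun s => L cs (τ.smul s) i v - R cs (τ.smul s) i v)
  exact (((continuous_L cs τ i).comp (continuous_id.prodMk continuous_const)).sub
    ((continuous_R cs τ i).comp (continuous_id.prodMk continuous_const)))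

theorem eventually_eq [Finite I] (s₀ : ℝ) :
    ∀ᶠ s in 𝓝 s₀, finrank ℂ (Z cs (τ.smul s)) = finrank ℂ (Z cs (τ.smul s₀)) := by
  have : Fintype I := Fintype.ofFinite I
  filter_upwards [H116.HeckeB.eventually_rank_le (fun s => Cas cs (τ.smul s)) s₀
      fun v => (continuous_Cas' cs τ v).continuousAt,
    H116.HeckeB.eventually_rank_le (fun s => Mt cs (τ.smul s)) s₀ fun v => (continuous_Mt cs τ v).continuousAt]
    with s h1 h2
  rw [finrank_range_Cas cs, finrank_range_Cas cs] at h1
  have h4 := LinearMap.finrank_range_add_finrank_ker (Mt cs (τ.smul s))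
  have h5 := LinearMap.finrank_range_add_finrank_ker (Mt cs (τ.smul s₀))
  rw [ker_Mt] at h4 h5
  omega

omit [Fintype W] in
/-- A locally constant function on `ℝ` is constant. -/
theorem const_of_eventually {f : ℝ → ℕ} (h : ∀ s₀, ∀ᶠ s in 𝓝 s₀, f s = f s₀) (s s' : ℝ) : f s = f s' := by
  refine (isPreconnected_univ (α := ℝ)).constant (f := f) ?_ (Set.mem_univ s) (Set.mem_univ s')
  intro s₀ _
  apply ContinuousAt.continuousWithinAt
  exact (continuousAt_const (y := f s₀)).congr ((h s₀).mono fun t h => h.symm)

/-- The dimension of the centre does not depend on the parameter. -/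
theorem finrank_Z_const [Finite I] (s s' : ℝ) :
    finrank ℂ (Z cs (τ.smul s)) = finrank ℂ (Z cs (τ.smul s')) :=
  const_of_eventually (f := fun s => finrank ℂ (Z cs (τ.smul s))) (fun s₀ => eventually_eq cs τ s₀) s s'

theorem p_zero {t : Wt cs} (ht : ∀ w, t.m w = 0) (i : I) : t.p i = 1 := by
  unfold Wt.p
  rw [ht, Real.exp_zero]

theorem mem_Z_one {t : Wt cs} (ht : ∀ w, t.m w = 0) {v : W → ℂ} : v ∈ Z cs t ↔ ∀ g x : W, v (g * x * g⁻¹) = v x := by
  have h1 : v ∈ Z cs t ↔ ∀ i x, v (cs.simple i * x) = v (x * cs.simple i) := by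
    rw [mem_Z]
    refine forall_congr' fun i => ?_
    rw [funext_iff]
    refine forall_congr' fun x => ?_
    rw [L_apply, R_apply, p_zero cs ht]
    simp
  rw [h1]
  constructor
  · intro h g
    induction g using cs.simple_induction_left with
    | one => intro x; simp
    | mul_simple_left g i ih =>
      intro x
      have h2 : cs.simple i * g * x * (cs.simple i * g)⁻¹ = cs.simple i * (g * x * g⁻¹ * cs.simple i) := by
        rw [mul_inv_rev, cs.inv_simple]; simp only [mul_assoc]
      rw [h2, h, mul_assoc, cs.simple_mul_simple_self, mul_one, ih]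
  · intro h i x
    rw [← h (cs.simple i) (x * cs.simple i)]
    simp [mul_assoc]

/-- The dimension of the centre is the number of conjugacy classes. -/
theorem finrank_Z_one {t : Wt cs} (ht : ∀ w, t.m w = 0) : finrank ℂ (Z cs t) = Nat.card (ConjClasses W) := by
  classical
  let f : (ConjClasses W → ℂ) →ₗ[ℂ] (W → ℂ) := LinearMap.funLeft ℂ ℂ ConjClasses.mk
  have hinj : Function.Injective f := LinearMap.funLeft_injective_of_surjective ℂ ℂ _ ConjClasses.mk_surjective
  have hr : LinearMap.range f = Z cs t := by
    ext v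
    rw [mem_Z_one cs ht]
    constructor
    · rintro ⟨u, rfl⟩ g x
      show u (ConjClasses.mk _) = u (ConjClasses.mk _)
      congr 1
      exact ConjClasses.mk_eq_mk_iff_isConj.2 (isConj_iff.2 ⟨g⁻¹, by group⟩)
    · intro h
      refine ⟨fun c => Quotient.liftOn c v ?_, ?_⟩
      · intro a b hab
        obtain ⟨g, hg⟩ := isConj_iff.1 (show IsConj a b from hab)
        rw [← hg, h]
      · rfl
  rw [← hr, LinearMap.finrank_range_of_inj hinj, Module.finrank_fintype_fun_eq_card, Nat.card_eq_fintype_card]

theorem smul_zero_m (w : W) : (τ.smul 0).m w = 0 := by rw [Wt.smul_m, zero_mul]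

theorem smul_one : τ.smul 1 = τ := by
  cases τ
  unfold Wt.smul
  simp only [one_mul]

theorem finrank_Z [Finite I] : finrank ℂ (Z cs τ) = Nat.card (ConjClasses W) := by
  have h := finrank_Z_const cs τ 1 0
  rw [smul_one] at h
  rw [h, finrank_Z_one cs (smul_zero_m cs τ)]

end Cfsg.Agent.H157.HK
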