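import Cfsg.Agent.H157.HK.A

/-!
# Left multiplications in the Hecke algebra (helper157)

`Lm cs t v` : left multiplication by `v`.

* `Lm_Lm` : `Lm (Lm u v) = Lm u * Lm v`;
* `Lm_A` : `Lm (T_w v T_{w⁻¹}) = T_w * Lm v * T_{w⁻¹}`;
* `trace_Cas` : `tr (Lm z * Lm (Cas v)) = tr (Lm z * Lm (Cas 1) * Lm v)` for `z` in the centre;
* `Lm_c_injective` : the central element `Cas 1` is invertible;
* `sa_Cas` : if `Lm v` is self-adjoint, so is `Lm (Cas v)`.
-/

set_option autoImplicit false
set_option linter.unusedSectionVars false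

namespace Cfsg.Agent.H157.HK

open CoxeterSystem Cfsg.Agent.Tits.Exchange Module
open scoped ComplexConjugate

variable {I W : Type*} {M : CoxeterMatrix I} [Group W] (cs : CoxeterSystem M W) [Fintype W] (t : Wt cs)

/-- Left multiplication by `v`. -/
noncomputable def Lm (v : W → ℂ) : Module.End ℂ (W → ℂ) := ∑ w, v w • LL cs t (wd cs w)

theorem Lm_add (u v : W → ℂ) : Lm cs t (u + v) = Lm cs t u + Lm cs t v := by
  unfold Lm
  rw [← Finset.sum_add_distrib]
  exact Finset.sum_congr rfl fun w _ => by rw [Pi.add_apply, add_smul]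

theorem Lm_smul (c : ℂ) (v : W → ℂ) : Lm cs t (c • v) = c • Lm cs t v := by
  unfold Lm
  rw [Finset.smul_sum]
  exact Finset.sum_congr rfl fun w _ => by rw [Pi.smul_apply, smul_eq_mul, mul_smul]

/-- `Lm` as a linear map. -/
noncomputable def LmL : (W → ℂ) →ₗ[ℂ] Module.End ℂ (W → ℂ) where
  toFun := Lm cs t
  map_add' := Lm_add cs t
  map_smul' := Lm_smul cs t

theorem LmL_apply (v : W → ℂ) : LmL cs t v = Lm cs t v := rfl

theorem Lm_sum {ι : Type*} (s : Finset ι) (f : ι → W → ℂ) : Lm cs t (∑ a ∈ s, f a) = ∑ a ∈ s, Lm cs t (f a) :=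
  map_sum (LmL cs t) f s

theorem Lm_sub (u v : W → ℂ) : Lm cs t (u - v) = Lm cs t u - Lm cs t v := map_sub (LmL cs t) u v

theorem Lm_zero : Lm cs t 0 = 0 := map_zero (LmL cs t)

theorem Lm_RR (v : W → ℂ) (ω : List I) : Lm cs t v * RR cs t ω = RR cs t ω * Lm cs t v := by
  unfold Lm
  rw [Finset.sum_mul, Finset.mul_sum]
  refine Finset.sum_congr rfl fun w _ => ?_
  rw [smul_mul_assoc, mul_smul_comm, commLR]

theorem Lm_R (v : W → ℂ) (i : I) : Lm cs t v * R cs t i = R cs t i * Lm cs t v := by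
  have h := Lm_RR cs t v [i]
  rwa [RR_cons, RR_nil, mul_one] at h

section

variable [DecidableEq W]

theorem Lm_e_one (v : W → ℂ) : Lm cs t v (e 1) = v := by
  unfold Lm
  rw [LinearMap.sum_apply]
  funext x
  rw [Finset.sum_apply, Finset.sum_eq_single x]
  · rw [LinearMap.smul_apply, LL_e_one cs t (wd_reduced cs x), wd_prod, Pi.smul_apply]
    unfold e
    rw [Pi.single_eq_same, smul_eq_mul, mul_one]
  · intro w _ hw
    rw [LinearMap.smul_apply, LL_e_one cs t (wd_reduced cs w), wd_prod, Pi.smul_apply]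
    unfold e
    rw [Pi.single_eq_of_ne (Ne.symm hw), smul_zero]
  · intro h
    exact absurd (Finset.mem_univ x) h

/-- An operator commuting with the right multiplications is a left multiplication. -/
theorem eq_Lm {a : Module.End ℂ (W → ℂ)} (ha : ∀ ω, a * RR cs t ω = RR cs t ω * a) : a = Lm cs t (a (e 1)) :=
  ext_left cs ha (Lm_RR cs t _) (Lm_e_one cs t _).symm

theorem Lm_Lm (u v : W → ℂ) : Lm cs t (Lm cs t u v) = Lm cs t u * Lm cs t v := by
  have h : Lm cs t u * Lm cs t v = Lm cs t ((Lm cs t u * Lm cs t v) (e 1)) := by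
    apply eq_Lm
    intro ω
    rw [mul_assoc, Lm_RR, ← mul_assoc, Lm_RR, mul_assoc]
  rw [h, Module.End.mul_apply, Lm_e_one]

theorem Lm_one : Lm cs t (e 1) = 1 := by
  symm
  have h := eq_Lm cs t (a := 1) fun ω => by rw [one_mul, mul_one]
  rwa [Module.End.one_apply] at h

theorem LL_eq {ω : List I} (h : cs.IsReduced ω) : LL cs t ω = Lm cs t (e (cs.wordProd ω)) := by
  have h1 := eq_Lm cs t (a := LL cs t ω) fun ω' => commLR cs t ω ω'
  rwa [LL_e_one cs t h] at h1

theorem LL_wd (w : W) : LL cs t (wd cs w) = Lm cs t (e w) := by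
  rw [LL_eq cs t (wd_reduced cs w), wd_prod]

theorem rev_reduced (w : W) : cs.IsReduced (wd cs w).reverse := by
  rw [cs.isReduced_reverse_iff]
  exact wd_reduced cs w

theorem rev_prod (w : W) : cs.wordProd (wd cs w).reverse = w⁻¹ := by
  rw [cs.wordProd_reverse, wd_prod]

theorem LL_rev (w : W) : LL cs t (wd cs w).reverse = Lm cs t (e w⁻¹) := by
  rw [LL_eq cs t (rev_reduced cs w), rev_prod]

theorem L_eq (i : I) : L cs t i = Lm cs t (e (cs.simple i)) := by
  have h : cs.IsReduced [i] := by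
    show cs.length _ = _
    rw [wordProd_singleton, cs.length_simple, List.length_singleton]
  have h1 := LL_eq cs t h
  rwa [LL_cons, LL_nil, mul_one, wordProd_singleton] at h1

theorem Lm_A (w : W) (v : W → ℂ) :
    Lm cs t (A cs t w v) = LL cs t (wd cs w) * Lm cs t v * LL cs t (wd cs w).reverse := by
  have h := eq_Lm cs t (a := LL cs t (wd cs w) * Lm cs t v * LL cs t (wd cs w).reverse) fun ω => by
    rw [mul_assoc, commLR, ← mul_assoc, mul_assoc (LL cs t _), Lm_RR, ← mul_assoc, commLR]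
    simp only [mul_assoc]
  rw [h]
  congr 1
  unfold A
  have h1 : RR cs t (wd cs w) (e 1) = LL cs t (wd cs w).reverse (e 1) := by
    rw [RR_e_one cs t (wd_reduced cs w), LL_e_one cs t (rev_reduced cs w), wd_prod, rev_prod]
  have h2 : RR cs t (wd cs w) v = Lm cs t v (LL cs t (wd cs w).reverse (e 1)) := by
    rw [← h1, ← Module.End.mul_apply, Lm_RR, Module.End.mul_apply, Lm_e_one]
  rw [Module.End.mul_apply, h2]
  rfl

theorem Lm_Cas (v : W → ℂ) : Lm cs t (Cas cs t v) =
    ∑ w : W, (t.f w : ℂ)⁻¹ • (LL cs t (wd cs w) * Lm cs t v * LL cs t (wd cs w).reverse) := by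
  unfold Cas
  rw [LinearMap.sum_apply, Lm_sum]
  refine Finset.sum_congr rfl fun w _ => ?_
  rw [LinearMap.smul_apply, Lm_smul, Lm_A]

/-- Elements of the centre commute with the left multiplications. -/
theorem Lm_L {z : W → ℂ} (hz : z ∈ Z cs t) (i : I) : Lm cs t z * L cs t i = L cs t i * Lm cs t z := by
  apply ext_left cs (t := t)
  · intro ω
    rw [mul_assoc, commR, ← mul_assoc, Lm_RR, mul_assoc]
  · intro ω
    rw [mul_assoc, Lm_RR, ← mul_assoc, commR, mul_assoc]
  · rw [Module.End.mul_apply, Module.End.mul_apply, Lm_e_one, (mem_Z cs).1 hz i]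
    have h1 : L cs t i (e 1) = R cs t i (e 1) := by
      rw [L_e cs t, R_e cs t, mul_one, one_mul]
      · rw [one_mul, cs.length_one, cs.length_simple]; exact one_pos
      · rw [mul_one, cs.length_one, cs.length_simple]; exact one_pos
    rw [h1, ← Module.End.mul_apply, Lm_R, Module.End.mul_apply, Lm_e_one]

theorem Lm_LL {z : W → ℂ} (hz : z ∈ Z cs t) (ω : List I) : Lm cs t z * LL cs t ω = LL cs t ω * Lm cs t z := by
  induction ω with
  | nil => rw [LL_nil, mul_one, one_mul]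
  | cons i ω ih => rw [LL_cons, ← mul_assoc, Lm_L cs t hz, mul_assoc, ih, mul_assoc]

theorem Lm_comm {z : W → ℂ} (hz : z ∈ Z cs t) (v : W → ℂ) : Lm cs t z * Lm cs t v = Lm cs t v * Lm cs t z := by
  unfold Lm
  rw [Finset.mul_sum, Finset.sum_mul]
  refine Finset.sum_congr rfl fun w _ => ?_
  rw [mul_smul_comm, smul_mul_assoc]
  congr 1
  exact Lm_LL cs t hz _

/-- An element whose left multiplication commutes with all `L i` is central. -/
theorem mem_Z_of_comm {z : W → ℂ} (h : ∀ i, Lm cs t z * L cs t i = L cs t i * Lm cs t z) : z ∈ Z cs t := by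
  rw [mem_Z]
  intro i
  have h1 := congrArg (fun a : Module.End ℂ (W → ℂ) => a (e 1)) (h i)
  simp only [Module.End.mul_apply, Lm_e_one] at h1
  have h2 : L cs t i (e 1) = R cs t i (e 1) := by
    rw [L_e cs t, R_e cs t, mul_one, one_mul]
    · rw [one_mul, cs.length_one, cs.length_simple]; exact one_pos
    · rw [mul_one, cs.length_one, cs.length_simple]; exact one_pos
  rw [h2, ← Module.End.mul_apply, Lm_R, Module.End.mul_apply, Lm_e_one] at h1
  exact h1.symm

/-- The central element `∑ f(w)⁻¹ T_w T_{w⁻¹}`. -/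
noncomputable def cz : W → ℂ := Cas cs t (e 1)

theorem Cas_mem (v : W → ℂ) : Cas cs t v ∈ Z cs t := range_Cas_le cs t ⟨v, rfl⟩

theorem cz_mem : cz cs t ∈ Z cs t := Cas_mem cs t _

theorem Lm_cz : Lm cs t (cz cs t) = ∑ w : W, (t.f w : ℂ)⁻¹ • (LL cs t (wd cs w) * LL cs t (wd cs w).reverse) := by
  unfold cz
  rw [Lm_Cas]
  refine Finset.sum_congr rfl fun w _ => ?_
  rw [Lm_one, mul_one]

theorem Lm_cz' : Lm cs t (cz cs t) = ∑ w : W, (t.f w : ℂ)⁻¹ • (LL cs t (wd cs w).reverse * LL cs t (wd cs w)) := by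
  rw [Lm_cz]
  refine Fintype.sum_equiv (Equiv.inv W) _ _ fun w => ?_
  rw [Equiv.inv_apply, t.f_inv, LL_rev, LL_wd, LL_rev, LL_wd, inv_inv]

/-- **The Casimir operator and the trace.** -/
theorem trace_Cas {z : W → ℂ} (hz : z ∈ Z cs t) (v : W → ℂ) :
    LinearMap.trace ℂ (W → ℂ) (Lm cs t z * Lm cs t (Cas cs t v)) =
      LinearMap.trace ℂ (W → ℂ) (Lm cs t z * Lm cs t (cz cs t) * Lm cs t v) := by
  rw [Lm_Cas, Lm_cz', Finset.mul_sum, Finset.mul_sum, Finset.sum_mul, map_sum, map_sum]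
  refine Finset.sum_congr rfl fun w _ => ?_
  rw [mul_smul_comm, mul_smul_comm, smul_mul_assoc, map_smul, map_smul]
  congr 1
  rw [← mul_assoc, LinearMap.trace_mul_comm, ← mul_assoc, ← mul_assoc, ← Lm_LL cs t hz, mul_assoc, mul_assoc,
    mul_assoc, mul_assoc]

theorem ip_Lm_cz (v : W → ℂ) : ip cs t (Lm cs t (cz cs t) v) v =
    ((∑ w : W, (t.f w)⁻¹ * nm cs t (LL cs t (wd cs w).reverse v) : ℝ) : ℂ) := by
  rw [Lm_cz, LinearMap.sum_apply, ip_sum_left, Complex.ofReal_sum]
  refine Finset.sum_congr rfl fun w _ => ?_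
  rw [LinearMap.smul_apply, ip_smul_left, Complex.ofReal_mul, Complex.ofReal_inv, ← ip_self]
  congr 1
  rw [Module.End.mul_apply, ip_LL]

/-- The central element `cz` is invertible. -/
theorem Lm_cz_injective : Function.Injective (Lm cs t (cz cs t)) := by
  rw [← LinearMap.ker_eq_bot, LinearMap.ker_eq_bot']
  intro v hv
  have h2 : ip cs t (Lm cs t (cz cs t) v) v = 0 := by
    rw [hv]
    unfold ip
    simp
  rw [ip_Lm_cz] at h2
  have h3 : ∑ w : W, (t.f w)⁻¹ * nm cs t (LL cs t (wd cs w).reverse v) = 0 := by exact_mod_cast h2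
  have h4 := (Finset.sum_eq_zero_iff_of_nonneg (fun w _ =>
    mul_nonneg (inv_pos.2 (t.f_pos _)).le (nm_nonneg cs t _))).1 h3 1 (Finset.mem_univ _)
  rw [wd_one, t.f_one, inv_one, one_mul, List.reverse_nil, LL_nil, Module.End.one_apply] at h4
  exact eq_zero_of_nm cs h4

end

/-! ### Self-adjoint operators -/

theorem ip_add_left (u u' v : W → ℂ) : ip cs t (u + u') v = ip cs t u v + ip cs t u' v := by
  unfold ip
  rw [← Finset.sum_add_distrib]
  exact Finset.sum_congr rfl fun x _ => by rw [Pi.add_apply]; ring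

theorem ip_conj (u v : W → ℂ) : conj (ip cs t u v) = ip cs t v u := by
  unfold ip
  rw [map_sum]
  refine Finset.sum_congr rfl fun x _ => ?_
  rw [map_mul, map_mul, Complex.conj_conj, Complex.conj_ofReal]
  ring

theorem ip_smul_right (c : ℂ) (u v : W → ℂ) : ip cs t u (c • v) = conj c * ip cs t u v := by
  rw [← ip_conj, ip_smul_left, map_mul, ip_conj]

theorem ip_add_right (u v v' : W → ℂ) : ip cs t u (v + v') = ip cs t u v + ip cs t u v' := by
  rw [← ip_conj, ip_add_left, map_add, ip_conj, ip_conj]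

theorem ip_sum_right {ι : Type*} (s : Finset ι) (f : ι → W → ℂ) (u : W → ℂ) :
    ip cs t u (∑ a ∈ s, f a) = ∑ a ∈ s, ip cs t u (f a) := by
  rw [← ip_conj, ip_sum_left, map_sum]
  exact Finset.sum_congr rfl fun a _ => ip_conj cs t _ _

/-- Self-adjoint operators. -/
def SA (a : Module.End ℂ (W → ℂ)) : Prop := ∀ u v, ip cs t (a u) v = ip cs t u (a v)

variable {cs t}

theorem SA.one : SA cs t 1 := fun _ _ => rfl

theorem SA.add {a b : Module.End ℂ (W → ℂ)} (ha : SA cs t a) (hb : SA cs t b) : SA cs t (a + b) := fun u v => by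
  rw [LinearMap.add_apply, LinearMap.add_apply, ip_add_left, ip_add_right, ha, hb]

theorem SA.smul {a : Module.End ℂ (W → ℂ)} (ha : SA cs t a) (r : ℝ) : SA cs t ((r : ℂ) • a) := fun u v => by
  rw [LinearMap.smul_apply, LinearMap.smul_apply, ip_smul_left, ip_smul_right, Complex.conj_ofReal, ha]

theorem SA.sum {ι : Type*} (s : Finset ι) {f : ι → Module.End ℂ (W → ℂ)} (h : ∀ a ∈ s, SA cs t (f a)) :
    SA cs t (∑ a ∈ s, f a) := fun u v => by
  rw [LinearMap.sum_apply, LinearMap.sum_apply, ip_sum_left, ip_sum_right]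
  exact Finset.sum_congr rfl fun a ha => h a ha u v

variable (cs t)

theorem sa_Cas [DecidableEq W] {v : W → ℂ} (hv : SA cs t (Lm cs t v)) : SA cs t (Lm cs t (Cas cs t v)) := by
  rw [Lm_Cas]
  refine SA.sum _ fun w _ => ?_
  have h1 : ((t.f w : ℂ))⁻¹ = (((t.f w)⁻¹ : ℝ) : ℂ) := by rw [Complex.ofReal_inv]
  rw [h1]
  refine SA.smul ?_ _
  intro x y
  simp only [Module.End.mul_apply]
  rw [ip_LL, hv, ip_LL, List.reverse_reverse]

end Cfsg.Agent.H157.HK
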