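import Cfsg.Agent.H157.HK.B
import Cfsg.Agent.H157.HK.C

/-!
# The spectrum of a central self-adjoint operator; constancy of its rank on the centre (helper157)
-/

set_option autoImplicit false
set_option linter.unusedSectionVars false

namespace Cfsg.Agent.H157.HK

open CoxeterSystem Cfsg.Agent.Tits.Exchange Module
open scoped ComplexConjugate

/-! ### Linear algebra -/

section LA

variable {V : Type*} [AddCommGroup V] [Module ℂ V]

/-- Two linear maps which agree on all the eigenspaces of a diagonalizable operator are equal. -/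
theorem ext_eigen {U : Module.End ℂ V} (hU : ⨆ μ, End.eigenspace U μ = ⊤) {a b : Module.End ℂ V}
    (h : ∀ (μ : ℂ) (v : V), U v = μ • v → a v = b v) : a = b := by
  have h1 : (⊤ : Submodule ℂ V) ≤ LinearMap.ker (a - b) := by
    rw [← hU]
    refine iSup_le fun μ v hv => ?_
    rw [LinearMap.mem_ker, LinearMap.sub_apply, sub_eq_zero]
    exact h μ v (End.mem_eigenspace_iff.1 hv)
  apply LinearMap.ext
  intro v
  have h2 := h1 (Submodule.mem_top (x := v))
  rwa [LinearMap.mem_ker, LinearMap.sub_apply, sub_eq_zero] at h2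

theorem prod_apply {U : Module.End ℂ V} {μ : ℂ} {v : V} (h : U v = μ • v) (l : List ℂ) :
    (l.map fun x => U - x • (1 : Module.End ℂ V)).prod v = (l.map fun x => μ - x).prod • v := by
  induction l with
  | nil => rw [List.map_nil, List.prod_nil, Module.End.one_apply, List.map_nil, List.prod_nil, one_smul]
  | cons x l ih =>
    rw [List.map_cons, List.prod_cons, Module.End.mul_apply, ih, map_smul, LinearMap.sub_apply, h,
      LinearMap.smul_apply, Module.End.one_apply, ← sub_smul, smul_smul, List.map_cons, List.prod_cons, mul_comm]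

theorem prod_zero {U : Module.End ℂ V} {μ : ℂ} {v : V} (h : U v = μ • v) {l : List ℂ} (hμ : μ ∈ l) :
    (l.map fun x => U - x • (1 : Module.End ℂ V)).prod v = 0 := by
  rw [prod_apply h, List.prod_eq_zero, zero_smul]
  exact List.mem_map.2 ⟨μ, hμ, sub_self μ⟩

theorem prod_mem {U : Module.End ℂ V} {N : Submodule ℂ V} (hN : ∀ v ∈ N, U v ∈ N) (l : List ℂ) {v : V} (hv : v ∈ N) :
    (l.map fun x => U - x • (1 : Module.End ℂ V)).prod v ∈ N := by
  induction l with
  | nil => rwa [List.map_nil, List.prod_nil, Module.End.one_apply]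
  | cons x l ih =>
    rw [List.map_cons, List.prod_cons, Module.End.mul_apply, LinearMap.sub_apply, LinearMap.smul_apply,
      Module.End.one_apply]
    exact N.sub_mem (hN _ ih) (N.smul_mem _ ih)

theorem prod_comm {U a : Module.End ℂ V} (ha : U * a = a * U) (l : List ℂ) :
    (l.map fun x => U - x • (1 : Module.End ℂ V)).prod * a = a * (l.map fun x => U - x • (1 : Module.End ℂ V)).prod := by
  induction l with
  | nil => rw [List.map_nil, List.prod_nil, one_mul, mul_one]
  | cons x l ih =>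
    rw [List.map_cons, List.prod_cons, mul_assoc, ih, ← mul_assoc, ← mul_assoc, sub_mul, mul_sub, ha,
      smul_mul_assoc, one_mul, mul_smul_comm, mul_one]

/-- The rank and the nullity of a diagonalizable operator on an invariant subspace. -/
theorem finrank_add [FiniteDimensional ℂ V] {U : Module.End ℂ V} (hU : ⨆ μ, End.eigenspace U μ = ⊤)
    {N : Submodule ℂ V} (hN : ∀ v ∈ N, U v ∈ N) {l : List ℂ} (h0 : (0 : ℂ) ∉ l)
    (hl : ∀ (μ : ℂ) (v : V), v ≠ 0 → U v = μ • v → μ ≠ 0 → μ ∈ l) :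
    finrank ℂ (N.map U) + finrank ℂ (N.map (l.map fun x => U - x • (1 : Module.End ℂ V)).prod) = finrank ℂ N := by
  set g := (l.map fun x => U - x • (1 : Module.End ℂ V)).prod with hg
  have hUg : U * g = 0 := by
    apply ext_eigen hU
    intro μ v hv
    rw [Module.End.mul_apply, LinearMap.zero_apply]
    by_cases hv0 : v = 0
    · rw [hv0, map_zero, map_zero]
    by_cases hμ : μ = 0
    · rw [hg, prod_apply hv, map_smul, hv, hμ, zero_smul, smul_zero]
    · rw [hg, prod_zero hv (hl μ v hv0 hv hμ), map_zero]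
  have hκ : (l.map fun x => (0 : ℂ) - x).prod ≠ 0 := by
    rw [Ne, List.prod_eq_zero_iff, List.mem_map]
    rintro ⟨x, hx, h⟩
    rw [zero_sub, neg_eq_zero] at h
    exact h0 (h ▸ hx)
  let f : N →ₗ[ℂ] V := U.domRestrict N
  have h1 := LinearMap.finrank_range_add_finrank_ker f
  have h2 : LinearMap.range f = N.map U := LinearMap.range_domRestrict N U
  have h3 : (LinearMap.ker f).map N.subtype = N.map g := by
    apply le_antisymm
    · rintro _ ⟨v, hv, rfl⟩
      have hv' : U (v : V) = 0 := hv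
      refine ⟨(l.map fun x => (0 : ℂ) - x).prod⁻¹ • (v : V), N.smul_mem _ v.2, ?_⟩
      rw [map_smul, hg, prod_apply (μ := 0) (by rw [hv', zero_smul]), smul_smul, inv_mul_cancel₀ hκ, one_smul]
      rfl
    · rintro _ ⟨v, hv, rfl⟩
      refine ⟨⟨g v, prod_mem hN l hv⟩, ?_, rfl⟩
      show U (g v) = 0
      rw [← Module.End.mul_apply, hUg, LinearMap.zero_apply]
  rw [← h2, ← h3, Submodule.finrank_map_subtype_eq]
  exact h1

/-- The projection on an eigenspace. -/
theorem exists_proj [FiniteDimensional ℂ V] {U : Module.End ℂ V} (hU : ⨆ μ, End.eigenspace U μ = ⊤) {μ : ℂ}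
    (hμ : ∃ v : V, v ≠ 0 ∧ U v = μ • v) : ∃ Q : Module.End ℂ V, Q * Q = Q ∧ Q ≠ 0 ∧ U * Q = μ • Q ∧
      ∀ a : Module.End ℂ V, U * a = a * U → Q * a = a * Q := by
  classical
  have hfin := End.finite_hasEigenvalue U
  let F : Finset ℂ := hfin.toFinset.erase μ
  let g := (F.toList.map fun x => U - x • (1 : Module.End ℂ V)).prod
  let κ : ℂ := (F.toList.map fun x => μ - x).prod
  have hκ : κ ≠ 0 := by
    show (F.toList.map fun x => μ - x).prod ≠ 0
    rw [Ne, List.prod_eq_zero_iff, List.mem_map]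
    rintro ⟨x, hx, h⟩
    rw [sub_eq_zero] at h
    exact (Finset.mem_erase.1 (Finset.mem_toList.1 hx)).1 h.symm
  have hg1 : ∀ v : V, U v = μ • v → (κ⁻¹ • g) v = v := fun v hv => by
    rw [LinearMap.smul_apply]
    show κ⁻¹ • (F.toList.map fun x => U - x • (1 : Module.End ℂ V)).prod v = v
    rw [prod_apply hv, smul_smul, inv_mul_cancel₀ hκ, one_smul]
  have hg0 : ∀ (ν : ℂ) (v : V), ν ≠ μ → U v = ν • v → (κ⁻¹ • g) v = 0 := fun ν v hν hv => by
    by_cases hv0 : v = 0
    · rw [hv0, map_zero]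
    rw [LinearMap.smul_apply]
    show κ⁻¹ • (F.toList.map fun x => U - x • (1 : Module.End ℂ V)).prod v = 0
    rw [prod_zero hv, smul_zero]
    rw [Finset.mem_toList]
    refine Finset.mem_erase.2 ⟨hν, hfin.mem_toFinset.2 ?_⟩
    exact End.hasEigenvalue_of_hasEigenvector (End.hasEigenvector_iff.2 ⟨End.mem_eigenspace_iff.2 hv, hv0⟩)
  refine ⟨κ⁻¹ • g, ?_, ?_, ?_, ?_⟩
  · apply ext_eigen hU
    intro ν v hv
    by_cases h : ν = μ
    · subst h
      rw [Module.End.mul_apply, hg1 v hv, hg1 v hv]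
    · rw [Module.End.mul_apply, hg0 ν v h hv, map_zero]
  · intro h
    obtain ⟨v, hv0, hv⟩ := hμ
    have := hg1 v hv
    rw [h, LinearMap.zero_apply] at this
    exact hv0 this.symm
  · apply ext_eigen hU
    intro ν v hv
    by_cases h : ν = μ
    · subst h
      rw [Module.End.mul_apply, LinearMap.smul_apply ν, hg1 v hv, hv]
    · rw [Module.End.mul_apply, LinearMap.smul_apply μ, hg0 ν v h hv, map_zero, smul_zero]
  · intro a ha
    rw [smul_mul_assoc, mul_smul_comm]
    congr 1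
    exact prod_comm ha F.toList

theorem trace_idem [FiniteDimensional ℂ V] {a : Module.End ℂ V} (h : a * a = a) :
    LinearMap.trace ℂ V a = (finrank ℂ (LinearMap.range a) : ℂ) :=
  (LinearMap.IsIdempotentElem.isProj_range a h).trace

end LA

/-! ### Self-adjoint operators -/

variable {I W : Type*} {M : CoxeterMatrix I} [Group W] (cs : CoxeterSystem M W) [Fintype W] (t : Wt cs)

theorem ip_sub_left (u u' v : W → ℂ) : ip cs t (u - u') v = ip cs t u v - ip cs t u' v := by
  unfold ip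
  rw [← Finset.sum_sub_distrib]
  exact Finset.sum_congr rfl fun x _ => by rw [Pi.sub_apply]; ring

theorem ip_sub_right (u v v' : W → ℂ) : ip cs t u (v - v') = ip cs t u v - ip cs t u v' := by
  rw [← ip_conj, ip_sub_left, map_sub, ip_conj, ip_conj]

theorem eq_zero_of_ip {v : W → ℂ} (h : ip cs t v v = 0) : v = 0 := by
  rw [ip_self] at h
  exact eq_zero_of_nm cs (by exact_mod_cast h)

variable {cs t}

theorem SA.real {U : Module.End ℂ (W → ℂ)} (hU : SA cs t U) {μ : ℂ} {v : W → ℂ} (hv0 : v ≠ 0) (hv : U v = μ • v) :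
    conj μ = μ := by
  have h1 := hU v v
  rw [hv, ip_smul_left, ip_smul_right] at h1
  exact (mul_right_cancel₀ (fun h => hv0 (eq_zero_of_ip cs t h)) h1).symm

theorem SA.ker_sq {U : Module.End ℂ (W → ℂ)} (hU : SA cs t U) {μ : ℂ} {v : W → ℂ}
    (h : (U - μ • (1 : Module.End ℂ (W → ℂ))) ((U - μ • (1 : Module.End ℂ (W → ℂ))) v) = 0) :
    (U - μ • (1 : Module.End ℂ (W → ℂ))) v = 0 := by
  by_contra h0
  have hx : U ((U - μ • (1 : Module.End ℂ (W → ℂ))) v) = μ • ((U - μ • (1 : Module.End ℂ (W → ℂ))) v) := by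
    rw [LinearMap.sub_apply, LinearMap.smul_apply, Module.End.one_apply, sub_eq_zero] at h
    exact h
  have hμ := hU.real h0 hx
  apply h0
  apply eq_zero_of_ip cs t
  have h2 : ip cs t ((U - μ • (1 : Module.End ℂ (W → ℂ))) v) ((U - μ • (1 : Module.End ℂ (W → ℂ))) v) =
      ip cs t v ((U - μ • (1 : Module.End ℂ (W → ℂ))) ((U - μ • (1 : Module.End ℂ (W → ℂ))) v)) := by
    have h3 : ∀ x : W → ℂ, ip cs t ((U - μ • (1 : Module.End ℂ (W → ℂ))) v) x =
        ip cs t v ((U - μ • (1 : Module.End ℂ (W → ℂ))) x) := by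
      intro x
      rw [LinearMap.sub_apply, LinearMap.smul_apply, Module.End.one_apply, LinearMap.sub_apply, LinearMap.smul_apply,
        Module.End.one_apply, ip_sub_left, ip_sub_right, hU, ip_smul_left, ip_smul_right, hμ]
    exact h3 _
  rw [h2, h]
  unfold ip
  simp

/-- **A self-adjoint operator is diagonalizable.** -/
theorem SA.iSup_eq {U : Module.End ℂ (W → ℂ)} (hU : SA cs t U) : ⨆ μ, End.eigenspace U μ = ⊤ := by
  have h1 := Module.End.iSup_maxGenEigenspace_eq_top U
  rw [eq_top_iff, ← h1]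
  refine iSup_mono fun μ v hv => ?_
  rw [Module.End.mem_maxGenEigenspace] at hv
  obtain ⟨k, hk⟩ := hv
  rw [End.mem_eigenspace_iff]
  suffices h : (U - μ • (1 : Module.End ℂ (W → ℂ))) v = 0 by
    rwa [LinearMap.sub_apply, LinearMap.smul_apply, Module.End.one_apply, sub_eq_zero] at h
  induction k with
  | zero =>
    rw [pow_zero, Module.End.one_apply] at hk
    rw [hk, map_zero]
  | succ k ih =>
    rcases k with _ | k
    · rwa [zero_add, pow_one] at hk
    · apply ih
      rw [pow_succ', pow_succ', Module.End.mul_apply, Module.End.mul_apply] at hk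
      rw [pow_succ', Module.End.mul_apply]
      exact hU.ker_sq hk

variable (cs t)

/-! ### The operator `u = c⁻¹ Cas(ε)` -/

section U

variable [DecidableEq W]

/-- The inverse of `Lm cz`. -/
noncomputable def Ci : Module.End ℂ (W → ℂ) :=
  (LinearEquiv.ofInjectiveEndo (Lm cs t (cz cs t)) (Lm_cz_injective cs t)).symm.toLinearMap

theorem Ci_mul : Ci cs t * Lm cs t (cz cs t) = 1 := by
  apply LinearMap.ext
  intro v
  exact (LinearEquiv.ofInjectiveEndo (Lm cs t (cz cs t)) (Lm_cz_injective cs t)).symm_apply_apply v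

theorem mul_Ci : Lm cs t (cz cs t) * Ci cs t = 1 := by
  apply LinearMap.ext
  intro v
  exact (LinearEquiv.ofInjectiveEndo (Lm cs t (cz cs t)) (Lm_cz_injective cs t)).apply_symm_apply v

theorem Ci_comm {a : Module.End ℂ (W → ℂ)} (h : Lm cs t (cz cs t) * a = a * Lm cs t (cz cs t)) :
    Ci cs t * a = a * Ci cs t := by
  calc Ci cs t * a = Ci cs t * a * (Lm cs t (cz cs t) * Ci cs t) := by rw [mul_Ci, mul_one]
    _ = Ci cs t * (a * Lm cs t (cz cs t)) * Ci cs t := by simp only [mul_assoc]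
    _ = Ci cs t * (Lm cs t (cz cs t) * a) * Ci cs t := by rw [h]
    _ = (Ci cs t * Lm cs t (cz cs t)) * a * Ci cs t := by simp only [mul_assoc]
    _ = a * Ci cs t := by rw [Ci_mul, one_mul]

/-- The operator `c⁻¹ Cas(ε)`. -/
noncomputable def U (ε : W → ℂ) : Module.End ℂ (W → ℂ) := Ci cs t * Lm cs t (Cas cs t ε)

/-- An operator commuting with all multiplications is the left multiplication by an element of the centre. -/
theorem exists_Lm {a : Module.End ℂ (W → ℂ)} (hR : ∀ i, a * R cs t i = R cs t i * a)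
    (hL : ∀ i, a * L cs t i = L cs t i * a) : ∃ z ∈ Z cs t, a = Lm cs t z := by
  have h : a = Lm cs t (a (e 1)) := by
    apply eq_Lm
    intro ω
    induction ω with
    | nil => rw [RR_nil, one_mul, mul_one]
    | cons i ω ih => rw [RR_cons, ← mul_assoc, hR, mul_assoc, ih, mul_assoc]
  refine ⟨a (e 1), ?_, h⟩
  apply mem_Z_of_comm
  intro i
  rw [← h]
  exact hL i

theorem Ci_R (i : I) : Ci cs t * R cs t i = R cs t i * Ci cs t := Ci_comm cs t (Lm_R cs t _ i)

theorem Ci_L (i : I) : Ci cs t * L cs t i = L cs t i * Ci cs t := Ci_comm cs t (Lm_L cs t (cz_mem cs t) i)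

theorem U_R (ε : W → ℂ) (i : I) : U cs t ε * R cs t i = R cs t i * U cs t ε := by
  unfold U
  rw [mul_assoc, Lm_R, ← mul_assoc, Ci_R, mul_assoc]

theorem U_L (ε : W → ℂ) (i : I) : U cs t ε * L cs t i = L cs t i * U cs t ε := by
  unfold U
  rw [mul_assoc, Lm_L cs t (Cas_mem cs t ε), ← mul_assoc, Ci_L, mul_assoc]

theorem Lm_Cas_eq (ε : W → ℂ) : Lm cs t (Cas cs t ε) = Lm cs t (cz cs t) * U cs t ε := by
  unfold U
  rw [← mul_assoc, mul_Ci, one_mul]

/-- The trace of `u` on the image of a central projection. -/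
theorem trace_U (ε : W → ℂ) {a : Module.End ℂ (W → ℂ)} (hR : ∀ i, a * R cs t i = R cs t i * a)
    (hL : ∀ i, a * L cs t i = L cs t i * a) :
    LinearMap.trace ℂ (W → ℂ) (a * U cs t ε) = LinearMap.trace ℂ (W → ℂ) (a * Lm cs t ε) := by
  obtain ⟨z, hz, h⟩ := exists_Lm cs t (a := a * Ci cs t)
    (fun i => by rw [mul_assoc, Ci_R, ← mul_assoc, hR, mul_assoc])
    (fun i => by rw [mul_assoc, Ci_L, ← mul_assoc, hL, mul_assoc])
  unfold U
  rw [← mul_assoc, h, trace_Cas cs t hz, ← h, mul_assoc a, Ci_mul, mul_one]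

theorem sa_U {ε : W → ℂ} (hε : SA cs t (Lm cs t ε)) : SA cs t (U cs t ε) := by
  have hY := sa_Cas cs t hε
  have hC : SA cs t (Lm cs t (cz cs t)) := by
    unfold cz
    apply sa_Cas
    rw [Lm_one]
    exact SA.one
  intro x y
  unfold U
  have h1 : y = Lm cs t (cz cs t) (Ci cs t y) := by rw [← Module.End.mul_apply, mul_Ci, Module.End.one_apply]
  have h2 : Ci cs t * Lm cs t (Cas cs t ε) = Lm cs t (Cas cs t ε) * Ci cs t :=
    Ci_comm cs t (Lm_comm cs t (cz_mem cs t) _)
  conv_lhs => rw [h1]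
  rw [← hC, ← Module.End.mul_apply, ← mul_assoc, mul_Ci, one_mul, hY, ← Module.End.mul_apply, ← h2]

theorem U_mem_Z (ε : W → ℂ) {v : W → ℂ} (hv : v ∈ Z cs t) : U cs t ε v ∈ Z cs t := by
  rw [mem_Z] at hv ⊢
  intro i
  rw [← Module.End.mul_apply, ← Module.End.mul_apply, ← U_L, ← U_R, Module.End.mul_apply, Module.End.mul_apply, hv]

/-- **The eigenvalues of `u`** are rational numbers with bounded numerator and denominator. -/
theorem eigen_mem {ι : Type*} (s : Finset ι) (c : ι → ℤ) (E : ι → W → ℂ)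
    (hE : ∀ j ∈ s, Lm cs t (E j) * Lm cs t (E j) = Lm cs t (E j)) (hSA : ∀ j ∈ s, SA cs t (Lm cs t (E j)))
    {μ : ℂ} {v : W → ℂ} (hv0 : v ≠ 0) (hv : U cs t (∑ j ∈ s, (c j : ℂ) • E j) v = μ • v) :
    ∃ (a : ℤ) (b : ℕ), 0 < b ∧ b ≤ Fintype.card W ∧ |a| ≤ (∑ j ∈ s, |c j|) * Fintype.card W ∧ μ = a / b := by
  set ε : W → ℂ := ∑ j ∈ s, (c j : ℂ) • E j with hε
  have hSAε : SA cs t (Lm cs t ε) := by
    rw [hε, Lm_sum]
    refine SA.sum _ fun j hj => ?_
    rw [Lm_smul]
    have h := (hSA j hj).smul (c j : ℝ)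
    rwa [Complex.ofReal_intCast] at h
  have hU := (sa_U cs t hSAε).iSup_eq
  obtain ⟨Q, hQ, hQ0, hUQ, hcomm⟩ := exists_proj hU ⟨v, hv0, hv⟩
  have hR : ∀ i, Q * R cs t i = R cs t i * Q := fun i => hcomm _ (U_R cs t ε i)
  have hL : ∀ i, Q * L cs t i = L cs t i * Q := fun i => hcomm _ (U_L cs t ε i)
  obtain ⟨z, hz, hQz⟩ := exists_Lm cs t hR hL
  have h1 := trace_U cs t ε hR hL
  have hQU : Q * U cs t ε = μ • Q := by rw [hcomm _ rfl, hUQ]
  rw [hQU, map_smul, trace_idem hQ, hε, Lm_sum, Finset.mul_sum, map_sum] at h1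
  have h2 : ∀ j ∈ s, LinearMap.trace ℂ (W → ℂ) (Q * Lm cs t ((c j : ℂ) • E j)) =
      (((c j) * (finrank ℂ (LinearMap.range (Q * Lm cs t (E j))) : ℤ) : ℤ) : ℂ) := by
    intro j hj
    rw [Lm_smul, mul_smul_comm, map_smul, trace_idem, smul_eq_mul]
    · push_cast
      rfl
    · have h3 : Lm cs t (E j) * Q = Q * Lm cs t (E j) := by
        rw [hQz]
        exact (Lm_comm cs t hz _).symm
      rw [mul_assoc, ← mul_assoc (Lm cs t (E j)), h3, mul_assoc, hE j hj, ← mul_assoc, hQ]
  rw [Finset.sum_congr rfl h2, ← Int.cast_sum] at h1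
  have hb : 0 < finrank ℂ (LinearMap.range Q) := by
    rw [Nat.pos_iff_ne_zero, Ne, Submodule.finrank_eq_zero, LinearMap.range_eq_bot]
    exact hQ0
  have hle : ∀ a : Module.End ℂ (W → ℂ), finrank ℂ (LinearMap.range a) ≤ Fintype.card W := fun a => by
    have := Submodule.finrank_le (LinearMap.range a)
    rwa [Module.finrank_fintype_fun_eq_card] at this
  refine ⟨∑ j ∈ s, (c j) * (finrank ℂ (LinearMap.range (Q * Lm cs t (E j))) : ℤ),
    finrank ℂ (LinearMap.range Q), hb, hle Q, ?_, ?_⟩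
  · refine (Finset.abs_sum_le_sum_abs _ _).trans ?_
    rw [Finset.sum_mul]
    refine Finset.sum_le_sum fun j _ => ?_
    rw [abs_mul, Nat.abs_cast]
    exact mul_le_mul_of_nonneg_left (by exact_mod_cast hle _) (abs_nonneg _)
  · rw [eq_div_iff (by exact_mod_cast hb.ne'), ← h1, smul_eq_mul]

end U

end Cfsg.Agent.H157.HK
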