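import Cfsg.Agent.H157.HK.E
import Cfsg.Agent.H116.HeckeU.Alg

/-!
# The central element `X = C⁻³ (C² Cas(ε) + β Ω)` (helper157)

`Ω = ∑ f(w)⁻¹ Cas(T_w) Cas(T_{w⁻¹})` acts on the irreducible representation `φ` by `κ³ / φ(1)²`, `C = Cas(1)` by `κ`.

* `trace_Om` : `tr (Lm q * Lm Ω) = tr (Lm q * C² * Cas)` for `q` in the centre;
* `rank_gen` : constancy of the rank on the centre, general form;
* `rkX_const` : the rank of `X` on the centre does not depend on the parameter.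
-/

set_option autoImplicit false
set_option linter.unusedSectionVars false

namespace Cfsg.Agent.H157.HK

open CoxeterSystem Cfsg.Agent.Tits.Exchange Cfsg.Agent.Tits.Core Module Filter Topology
open scoped ComplexConjugate

variable {I W : Type*} {M : CoxeterMatrix I} [Group W] (cs : CoxeterSystem M W) [Fintype W]

section Gen

variable [DecidableEq W] (t : Wt cs)

theorem Lm_mem {u v : W → ℂ} (hu : u ∈ Z cs t) (hv : v ∈ Z cs t) : Lm cs t u v ∈ Z cs t := by
  rw [mem_Z] at hv ⊢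
  intro i
  rw [← Module.End.mul_apply, ← Lm_L cs t hu, Module.End.mul_apply, hv i, ← Module.End.mul_apply, Lm_R,
    Module.End.mul_apply]

/-! ### The value at `1` -/

theorem LL_apply_one (v : W → ℂ) (w : W) : LL cs t (wd cs w) v 1 = (t.f w : ℂ) * v w⁻¹ := by
  have h1 := ip_LL cs t (wd cs w) v (e 1)
  rw [LL_e_one cs t (rev_reduced cs w), rev_prod, H116.HeckeU.ip_e, H116.HeckeU.ip_e, t.f_one, t.f_inv] at h1
  rw [← h1]
  push_cast
  ring

theorem Lm_apply_one (u v : W → ℂ) : Lm cs t u v 1 = ∑ w, u w * ((t.f w : ℂ) * v w⁻¹) := by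
  unfold Lm
  rw [LinearMap.sum_apply, Finset.sum_apply]
  refine Finset.sum_congr rfl fun w _ => ?_
  rw [LinearMap.smul_apply, Pi.smul_apply, smul_eq_mul, LL_apply_one]

theorem tau_comm (u v : W → ℂ) : Lm cs t u v 1 = Lm cs t v u 1 := by
  rw [Lm_apply_one, Lm_apply_one]
  refine Fintype.sum_equiv (Equiv.inv W) _ _ fun w => ?_
  rw [Equiv.inv_apply, t.f_inv, inv_inv]
  ring

theorem cz_eq : cz cs t = ∑ w, (t.f w : ℂ)⁻¹ • Lm cs t (e w⁻¹) (e w) := by
  have h1 : Lm cs t (cz cs t) (e 1) = cz cs t := Lm_e_one cs t _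
  rw [← h1, Lm_cz', LinearMap.sum_apply]
  refine Finset.sum_congr rfl fun w _ => ?_
  rw [LinearMap.smul_apply, Module.End.mul_apply, LL_e_one cs t (wd_reduced cs w), wd_prod, LL_rev]

theorem Cas_apply' (v : W → ℂ) : Cas cs t v = ∑ w, (t.f w : ℂ)⁻¹ • Lm cs t (e w) (Lm cs t v (e w⁻¹)) := by
  rw [H116.HeckeU.Cas_apply]
  refine Finset.sum_congr rfl fun w _ => ?_
  rw [H116.HeckeU.Rm_eq]
  rfl

/-- `τ(Cas y) = τ(C y)`. -/
theorem tau_Cas (y : W → ℂ) : Cas cs t y 1 = Lm cs t (cz cs t) y 1 := by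
  rw [tau_comm, Cas_apply', Finset.sum_apply]
  conv_rhs => rw [cz_eq, map_sum, Finset.sum_apply]
  refine Finset.sum_congr rfl fun w _ => ?_
  rw [map_smul, Pi.smul_apply, Pi.smul_apply]
  congr 1
  rw [tau_comm, Lm_Lm, Module.End.mul_apply]

theorem trace_Lm (u : W → ℂ) : LinearMap.trace ℂ (W → ℂ) (Lm cs t u) = Lm cs t u (cz cs t) 1 := by
  have h := H116.HeckeU.trace_mul cs t u (e 1)
  rw [H116.HeckeU.Rm_one, mul_one] at h
  exact h

theorem Cas_Lm {z : W → ℂ} (hz : z ∈ Z cs t) (v : W → ℂ) : Cas cs t (Lm cs t z v) = Lm cs t z (Cas cs t v) :=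
  H116.HeckeU.Cas_Lm cs hz v

theorem Cas_of_mem {z : W → ℂ} (hz : z ∈ Z cs t) : Cas cs t z = Lm cs t (cz cs t) z := by
  conv_lhs => rw [← Lm_e_one cs t z]
  rw [Cas_Lm cs t hz]
  show Lm cs t z (cz cs t) = _
  have h := congrArg (fun a : Module.End ℂ (W → ℂ) => a (e 1)) (Lm_comm cs t hz (cz cs t))
  simp only [Module.End.mul_apply, Lm_e_one] at h
  exact h

/-! ### `Ω` -/

/-- The central element `∑ f(w)⁻¹ Cas(T_w) Cas(T_{w⁻¹})`. -/
noncomputable def Om : W → ℂ := ∑ w : W, (t.f w : ℂ)⁻¹ • Lm cs t (Cas cs t (e w)) (Cas cs t (e w⁻¹))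

theorem Om_mem : Om cs t ∈ Z cs t := by
  unfold Om
  exact Submodule.sum_mem _ fun w _ => Submodule.smul_mem _ _ (Lm_mem cs t (Cas_mem cs t _) (Cas_mem cs t _))

theorem comm_e {z : W → ℂ} (hz : z ∈ Z cs t) (v : W → ℂ) : Lm cs t z v = Lm cs t v z := by
  have h := congrArg (fun a : Module.End ℂ (W → ℂ) => a (e 1)) (Lm_comm cs t hz v)
  simp only [Module.End.mul_apply, Lm_e_one] at h
  exact h

/-- **The trace of `Ω`.** -/
theorem trace_Om {q : W → ℂ} (hq : q ∈ Z cs t) :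
    LinearMap.trace ℂ (W → ℂ) (Lm cs t q * Lm cs t (Om cs t)) =
      LinearMap.trace ℂ (W → ℂ) (Lm cs t q * Lm cs t (cz cs t) ^ 2 * Cas cs t) := by
  have hC := cz_mem cs t
  have hqC : Lm cs t q (cz cs t) ∈ Z cs t := Lm_mem cs t hq hC
  -- left hand side
  have hL : LinearMap.trace ℂ (W → ℂ) (Lm cs t q * Lm cs t (Om cs t)) =
      ∑ w, (t.f w : ℂ)⁻¹ • Lm cs t (Lm cs t q (cz cs t)) (Lm cs t (Cas cs t (e w)) (Cas cs t (e w⁻¹))) 1 := by
    rw [← Lm_Lm, trace_Lm, Lm_Lm, Module.End.mul_apply, comm_e cs t (Om_mem cs t), ← Module.End.mul_apply, ← Lm_Lm]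
    unfold Om
    rw [map_sum, Finset.sum_apply]
    refine Finset.sum_congr rfl fun w _ => ?_
    rw [map_smul, Pi.smul_apply]
  -- right hand side
  have hx : Lm cs t q * Lm cs t (cz cs t) ^ 2 = Lm cs t (Lm cs t (Lm cs t q (cz cs t)) (cz cs t)) := by
    rw [Lm_Lm, Lm_Lm, pow_two, mul_assoc]
  have hCas : Cas cs t = ∑ w, (t.f w : ℂ)⁻¹ • (Lm cs t (e w) * H116.HeckeU.Rm cs t (e w⁻¹)) := by
    apply LinearMap.ext
    intro v
    rw [H116.HeckeU.Cas_apply, LinearMap.sum_apply]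
    rfl
  have hR : LinearMap.trace ℂ (W → ℂ) (Lm cs t q * Lm cs t (cz cs t) ^ 2 * Cas cs t) =
      ∑ w, (t.f w : ℂ)⁻¹ • Lm cs t (Lm cs t (Lm cs t (Lm cs t q (cz cs t)) (cz cs t)) (e w)) (Cas cs t (e w⁻¹)) 1 := by
    rw [hx]
    conv_lhs => rw [hCas]
    rw [Finset.mul_sum, map_sum]
    refine Finset.sum_congr rfl fun w _ => ?_
    rw [mul_smul_comm, map_smul]
    congr 1
    rw [← mul_assoc, ← Lm_Lm]
    exact H116.HeckeU.trace_mul cs t (Lm cs t (Lm cs t (Lm cs t q (cz cs t)) (cz cs t)) (e w)) (e w⁻¹)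
  rw [hL, hR]
  refine Finset.sum_congr rfl fun w _ => ?_
  congr 1
  have hz' := Cas_mem cs t (e w⁻¹ : W → ℂ)
  -- move `C` to the front
  have h3 : Lm cs t (Lm cs t (Lm cs t (Lm cs t q (cz cs t)) (cz cs t)) (e w)) (Cas cs t (e w⁻¹)) =
      Lm cs t (cz cs t) (Lm cs t (Lm cs t q (cz cs t)) (Lm cs t (e w) (Cas cs t (e w⁻¹)))) := by
    have h4 : Lm cs t (Lm cs t (Lm cs t q (cz cs t)) (cz cs t)) =
        Lm cs t (cz cs t) * Lm cs t (Lm cs t q (cz cs t)) := by
      rw [Lm_Lm]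
      exact Lm_comm cs t hqC _
    rw [Lm_Lm, h4]
    rfl
  have h5 : Lm cs t (e w) (Cas cs t (e w⁻¹)) = Lm cs t (Cas cs t (e w⁻¹)) (e w) := (comm_e cs t hz' _).symm
  rw [h3, ← tau_Cas, Cas_Lm cs t hqC, h5, Cas_Lm cs t hz', comm_e cs t hz']

/-! ### Self-adjointness -/

theorem adj_Cas (w : W) (u v : W → ℂ) :
    ip cs t (Lm cs t (Cas cs t (e w)) u) v = ip cs t u (Lm cs t (Cas cs t (e w⁻¹)) v) := by
  rw [Lm_Cas, Lm_Cas, LinearMap.sum_apply, LinearMap.sum_apply, ip_sum_left, ip_sum_right]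
  refine Finset.sum_congr rfl fun x _ => ?_
  have h1 : ((t.f x : ℂ))⁻¹ = (((t.f x)⁻¹ : ℝ) : ℂ) := by rw [Complex.ofReal_inv]
  rw [LinearMap.smul_apply, LinearMap.smul_apply, ip_smul_left, ip_smul_right, h1, Complex.conj_ofReal]
  congr 1
  simp only [Module.End.mul_apply]
  rw [ip_LL, ip_Lm_e, ip_LL, List.reverse_reverse]

theorem Om_sa : SA cs t (Lm cs t (Om cs t)) := by
  unfold Om
  rw [Lm_sum]
  refine SA.sum _ fun w _ => ?_
  have h1 : ((t.f w : ℂ))⁻¹ = (((t.f w)⁻¹ : ℝ) : ℂ) := by rw [Complex.ofReal_inv]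
  rw [h1, Lm_smul]
  refine SA.smul ?_ _
  intro u v
  rw [Lm_Lm, Module.End.mul_apply, Module.End.mul_apply, adj_Cas, adj_Cas, inv_inv]

theorem cz_sa : SA cs t (Lm cs t (cz cs t)) := by
  unfold cz
  apply sa_Cas
  rw [Lm_one]
  exact SA.one

theorem SA.mul {a b : Module.End ℂ (W → ℂ)} (ha : SA cs t a) (hb : SA cs t b) (h : a * b = b * a) :
    SA cs t (a * b) := fun u v => by
  rw [Module.End.mul_apply, ha, hb, ← Module.End.mul_apply, ← h]

theorem Ci_sa : SA cs t (Ci cs t) := by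
  intro u v
  have h1 : v = Lm cs t (cz cs t) (Ci cs t v) := by rw [← Module.End.mul_apply, mul_Ci, Module.End.one_apply]
  have h2 : u = Lm cs t (cz cs t) (Ci cs t u) := by rw [← Module.End.mul_apply, mul_Ci, Module.End.one_apply]
  conv_lhs => rw [h1]
  conv_rhs => rw [h2]
  rw [cz_sa]

theorem Ci_pow_comm (k : ℕ) {a : Module.End ℂ (W → ℂ)} (h : Lm cs t (cz cs t) * a = a * Lm cs t (cz cs t)) :
    Ci cs t ^ k * a = a * Ci cs t ^ k := by
  have h1 : Commute (Ci cs t) a := Ci_comm cs t h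
  exact (h1.pow_left k).eq

theorem sa_gen (k : ℕ) {a : Module.End ℂ (W → ℂ)} (ha : SA cs t a)
    (h : Lm cs t (cz cs t) * a = a * Lm cs t (cz cs t)) : SA cs t (Ci cs t ^ k * a) := by
  induction k with
  | zero => rwa [pow_zero, one_mul]
  | succ k ih =>
    rw [pow_succ', mul_assoc]
    refine SA.mul cs t (Ci_sa cs t) ih ?_
    rw [← mul_assoc, ← pow_succ', pow_succ, mul_assoc, Ci_comm cs t h, mul_assoc]

/-! ### The general constancy theorem -/

theorem Xk_L (k : ℕ) {Y : W → ℂ} (hY : Y ∈ Z cs t) (i : I) :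
    (Ci cs t ^ k * Lm cs t Y) * L cs t i = L cs t i * (Ci cs t ^ k * Lm cs t Y) := by
  rw [mul_assoc, Lm_L cs t hY, ← mul_assoc, Ci_pow_comm cs t k (Lm_L cs t (cz_mem cs t) i), mul_assoc]

theorem Xk_R (k : ℕ) (Y : W → ℂ) (i : I) :
    (Ci cs t ^ k * Lm cs t Y) * R cs t i = R cs t i * (Ci cs t ^ k * Lm cs t Y) := by
  rw [mul_assoc, Lm_R, ← mul_assoc, Ci_pow_comm cs t k (Lm_R cs t _ i), mul_assoc]

theorem Xk_mem_Z (k : ℕ) {Y : W → ℂ} (hY : Y ∈ Z cs t) {v : W → ℂ} (hv : v ∈ Z cs t) :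
    (Ci cs t ^ k * Lm cs t Y) v ∈ Z cs t := by
  rw [mem_Z] at hv ⊢
  intro i
  calc L cs t i ((Ci cs t ^ k * Lm cs t Y) v) = (L cs t i * (Ci cs t ^ k * Lm cs t Y)) v := rfl
    _ = ((Ci cs t ^ k * Lm cs t Y) * L cs t i) v := by rw [Xk_L cs t k hY]
    _ = (Ci cs t ^ k * Lm cs t Y) (R cs t i v) := by rw [← hv i]; rfl
    _ = ((Ci cs t ^ k * Lm cs t Y) * R cs t i) v := rfl
    _ = (R cs t i * (Ci cs t ^ k * Lm cs t Y)) v := by rw [Xk_R]
    _ = R cs t i ((Ci cs t ^ k * Lm cs t Y) v) := rfl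

theorem C_mul_Ci_pow (k : ℕ) : Lm cs t (cz cs t) ^ k * Ci cs t ^ k = 1 := by
  have h : Commute (Lm cs t (cz cs t)) (Ci cs t) := by
    show _ * _ = _ * _
    rw [mul_Ci, Ci_mul]
  rw [← h.mul_pow, mul_Ci, one_pow]

theorem Lm_Y_eq (k : ℕ) (Y : W → ℂ) : Lm cs t Y = Lm cs t (cz cs t) ^ k * (Ci cs t ^ k * Lm cs t Y) := by
  rw [← mul_assoc, C_mul_Ci_pow, one_mul]

/-- The complementary operator. -/
noncomputable def Kg (k : ℕ) (Y : W → ℂ) (l : List ℂ) : Module.End ℂ (W → ℂ) :=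
  (l.map fun x => Lm cs t Y - x • Lm cs t (cz cs t) ^ k).prod

theorem Kg_eq (k : ℕ) {Y : W → ℂ} (hY : Y ∈ Z cs t) (l : List ℂ) :
    Kg cs t k Y l = Lm cs t (cz cs t) ^ (k * l.length) *
      (l.map fun x => Ci cs t ^ k * Lm cs t Y - x • (1 : Module.End ℂ (W → ℂ))).prod := by
  have hc : Commute (Ci cs t ^ k * Lm cs t Y) (Lm cs t (cz cs t)) := by
    have h1 : Commute (Ci cs t) (Lm cs t (cz cs t)) := by
      show _ * _ = _ * _
      rw [mul_Ci, Ci_mul]
    have h2 : Commute (Lm cs t Y) (Lm cs t (cz cs t)) := Lm_comm cs t hY _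
    exact (h1.pow_left k).mul_left h2
  induction l with
  | nil =>
    unfold Kg
    rw [List.map_nil, List.prod_nil, List.length_nil, Nat.mul_zero, pow_zero, List.map_nil, List.prod_nil, mul_one]
  | cons x l ih =>
    unfold Kg at ih ⊢
    rw [List.map_cons, List.prod_cons, ih, List.map_cons, List.prod_cons, List.length_cons]
    have h1 : Lm cs t Y - x • Lm cs t (cz cs t) ^ k =
        Lm cs t (cz cs t) ^ k * (Ci cs t ^ k * Lm cs t Y - x • (1 : Module.End ℂ (W → ℂ))) := by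
      rw [mul_sub, mul_smul_comm, mul_one, ← Lm_Y_eq]
    have h2 : Commute (Ci cs t ^ k * Lm cs t Y - x • (1 : Module.End ℂ (W → ℂ))) (Lm cs t (cz cs t)) :=
      hc.sub_left ((Commute.one_left _).smul_left x)
    rw [h1, Nat.mul_succ, Nat.add_comm, pow_add, mul_assoc, ← mul_assoc (Ci cs t ^ k * Lm cs t Y - _),
      (h2.pow_right (k * l.length)).eq]
    simp only [mul_assoc]

theorem finrank_map_Y (k : ℕ) (Y : W → ℂ) :
    finrank ℂ ((Z cs t).map (Lm cs t Y)) = finrank ℂ ((Z cs t).map (Ci cs t ^ k * Lm cs t Y)) := by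
  conv_lhs => rw [Lm_Y_eq cs t k Y]
  exact finrank_map_mul cs t k _

theorem rank_add_gen (k : ℕ) {Y : W → ℂ} (hY : Y ∈ Z cs t) (hSA : SA cs t (Lm cs t Y)) (F : Finset ℂ)
    (hF : ∀ (μ : ℂ) (v : W → ℂ), v ≠ 0 → (Ci cs t ^ k * Lm cs t Y) v = μ • v → μ ∈ F) :
    finrank ℂ ((Z cs t).map (Lm cs t Y)) + finrank ℂ ((Z cs t).map (Kg cs t k Y (F.erase 0).toList)) =
      finrank ℂ (Z cs t) := by
  rw [finrank_map_Y cs t k, Kg_eq cs t k hY, finrank_map_mul]
  refine finrank_add (sa_gen cs t k hSA ?_).iSup_eq (fun v hv => Xk_mem_Z cs t k hY hv) ?_ ?_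
  · exact (Lm_comm cs t (cz_mem cs t) Y)
  · rw [Finset.mem_toList]
    exact Finset.notMem_erase _ _
  · intro μ v hv0 hv hμ
    rw [Finset.mem_toList]
    exact Finset.mem_erase.2 ⟨hμ, hF μ v hv0 hv⟩

end Gen

section Const

variable [DecidableEq W] (τ : Wt cs)

theorem continuous_cz : Continuous fun s : ℝ => cz cs (τ.smul s) := by
  unfold cz
  exact continuous_CasC cs τ continuous_const

theorem continuous_Cpow (k : ℕ) {y : ℝ → W → ℂ} (hy : Continuous y) :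
    Continuous fun s : ℝ => (Lm cs (τ.smul s) (cz cs (τ.smul s)) ^ k) (y s) := by
  induction k with
  | zero => simpa only [pow_zero, Module.End.one_apply] using hy
  | succ k ih =>
    simp only [pow_succ', Module.End.mul_apply]
    exact continuous_Lm cs τ (continuous_cz cs τ) ih

theorem continuous_Kg (k : ℕ) {Y : ℝ → W → ℂ} (hY : Continuous Y) (l : List ℂ) {y : ℝ → W → ℂ} (hy : Continuous y) :
    Continuous fun s : ℝ => Kg cs (τ.smul s) k (Y s) l (y s) := by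
  induction l with
  | nil =>
    have : (fun s : ℝ => Kg cs (τ.smul s) k (Y s) [] (y s)) = y := by
      funext s
      unfold Kg
      rw [List.map_nil, List.prod_nil, Module.End.one_apply]
    rw [this]
    exact hy
  | cons x l ih =>
    have h1 : (fun s : ℝ => Kg cs (τ.smul s) k (Y s) (x :: l) (y s)) = fun s =>
        Lm cs (τ.smul s) (Y s) (Kg cs (τ.smul s) k (Y s) l (y s)) -
          x • (Lm cs (τ.smul s) (cz cs (τ.smul s)) ^ k) (Kg cs (τ.smul s) k (Y s) l (y s)) := by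
      funext s
      unfold Kg
      rw [List.map_cons, List.prod_cons, Module.End.mul_apply, LinearMap.sub_apply, LinearMap.smul_apply]
    rw [h1]
    exact (continuous_Lm cs τ hY ih).sub ((continuous_Cpow cs τ k ih).const_smul x)

/-- **The rank on the centre does not depend on the parameter**, general form. -/
theorem rank_gen [Finite I] (k : ℕ) {Y : ℝ → W → ℂ} (hc : Continuous Y) (hZ : ∀ s, Y s ∈ Z cs (τ.smul s))
    (hSA : ∀ s, SA cs (τ.smul s) (Lm cs (τ.smul s) (Y s))) (F : Finset ℂ)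
    (hF : ∀ (s : ℝ) (μ : ℂ) (v : W → ℂ), v ≠ 0 →
      (Ci cs (τ.smul s) ^ k * Lm cs (τ.smul s) (Y s)) v = μ • v → μ ∈ F) (s s' : ℝ) :
    finrank ℂ ((Z cs (τ.smul s)).map (Lm cs (τ.smul s) (Y s))) =
      finrank ℂ ((Z cs (τ.smul s')).map (Lm cs (τ.smul s') (Y s'))) := by
  refine const_of_eventually (f := fun s => finrank ℂ ((Z cs (τ.smul s)).map (Lm cs (τ.smul s) (Y s))))
    (fun s₀ => ?_) s s'
  filter_upwards [H116.HeckeB.eventually_rank_le
      (fun s => Lm cs (τ.smul s) (Y s) * Cas cs (τ.smul s)) s₀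
      fun v => (continuous_Lm cs τ hc (continuous_Cas' cs τ v)).continuousAt,
    H116.HeckeB.eventually_rank_le
      (fun s => Kg cs (τ.smul s) k (Y s) (F.erase 0).toList * Cas cs (τ.smul s)) s₀
      fun v => (continuous_Kg cs τ k hc _ (continuous_Cas' cs τ v)).continuousAt] with s h1 h2
  rw [range_mul_Cas, range_mul_Cas] at h1 h2
  have h3 := rank_add_gen cs (τ.smul s) k (hZ s) (hSA s) F (hF s)
  have h4 := rank_add_gen cs (τ.smul s₀) k (hZ s₀) (hSA s₀) F (hF s₀)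
  have h5 := finrank_Z_const cs τ s s₀
  omega

end Const

/-! ### The operator `X` -/

section X

variable [DecidableEq W] (t : Wt cs)

/-- `C² Cas(ε) + β Ω`. -/
noncomputable def Yc (S : Finset (Set I)) (c : Set I → ℤ) (β : ℤ) : W → ℂ :=
  Lm cs t (cz cs t) (Lm cs t (cz cs t) (Cas cs t (eps cs t S c))) + (β : ℂ) • Om cs t

theorem Yc_mem (S : Finset (Set I)) (c : Set I → ℤ) (β : ℤ) : Yc cs t S c β ∈ Z cs t :=
  Submodule.add_mem _ (Lm_mem cs t (cz_mem cs t) (Lm_mem cs t (cz_mem cs t) (Cas_mem cs t _)))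
    (Submodule.smul_mem _ _ (Om_mem cs t))

theorem Lm_Yc (S : Finset (Set I)) (c : Set I → ℤ) (β : ℤ) : Lm cs t (Yc cs t S c β) =
    Lm cs t (cz cs t) ^ 2 * Lm cs t (Cas cs t (eps cs t S c)) + (β : ℂ) • Lm cs t (Om cs t) := by
  unfold Yc
  rw [Lm_add, Lm_smul, Lm_Lm, Lm_Lm, pow_two, mul_assoc]

theorem Yc_sa (S : Finset (Set I)) (c : Set I → ℤ) (β : ℤ) : SA cs t (Lm cs t (Yc cs t S c β)) := by
  rw [Lm_Yc, pow_two, mul_assoc]
  have h1 : Lm cs t (cz cs t) * Lm cs t (Cas cs t (eps cs t S c)) =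
      Lm cs t (Cas cs t (eps cs t S c)) * Lm cs t (cz cs t) := Lm_comm cs t (cz_mem cs t) _
  have h2 := SA.mul cs t (cz_sa cs t) (sa_Cas cs t (eps_sa cs t S c)) h1
  refine (SA.mul cs t (cz_sa cs t) h2 ?_).add ?_
  · rw [mul_assoc, ← h1]
  · have h := (Om_sa cs t).smul (β : ℝ)
    rwa [Complex.ofReal_intCast] at h

/-- The operator `X`. -/
noncomputable def Xo (S : Finset (Set I)) (c : Set I → ℤ) (β : ℤ) : Module.End ℂ (W → ℂ) :=
  Ci cs t ^ 3 * Lm cs t (Yc cs t S c β)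

/-- The projection onto the centre. -/
noncomputable def Pz : Module.End ℂ (W → ℂ) := Ci cs t * Cas cs t

theorem C_Cas : Lm cs t (cz cs t) * Cas cs t = Cas cs t * Lm cs t (cz cs t) := by
  apply LinearMap.ext
  intro v
  exact (Cas_Lm cs t (cz_mem cs t) v).symm

theorem Pz_idem : Pz cs t * Pz cs t = Pz cs t := by
  have h1 : Cas cs t * Cas cs t = Lm cs t (cz cs t) * Cas cs t := by
    apply LinearMap.ext
    intro v
    exact Cas_of_mem cs t (Cas_mem cs t v)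
  unfold Pz
  calc Ci cs t * Cas cs t * (Ci cs t * Cas cs t) = Ci cs t * (Cas cs t * Ci cs t) * Cas cs t := by
        simp only [mul_assoc]
    _ = Ci cs t * (Ci cs t * Cas cs t) * Cas cs t := by rw [Ci_comm cs t (C_Cas cs t)]
    _ = Ci cs t * Ci cs t * (Cas cs t * Cas cs t) := by simp only [mul_assoc]
    _ = Ci cs t * (Ci cs t * Lm cs t (cz cs t)) * Cas cs t := by rw [h1]; simp only [mul_assoc]
    _ = Ci cs t * Cas cs t := by rw [Ci_mul, mul_one]

theorem Pz_comm {q : W → ℂ} (hq : q ∈ Z cs t) : Pz cs t * Lm cs t q = Lm cs t q * Pz cs t := by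
  unfold Pz
  have h1 : Cas cs t * Lm cs t q = Lm cs t q * Cas cs t := by
    apply LinearMap.ext
    intro v
    exact Cas_Lm cs t hq v
  rw [mul_assoc, h1, ← mul_assoc, Ci_comm cs t (Lm_comm cs t (cz_mem cs t) q), mul_assoc]

theorem range_Pz : LinearMap.range (Pz cs t) = Z cs t := by
  apply Submodule.eq_of_le_of_finrank_eq
  · rintro _ ⟨v, rfl⟩
    have h := Xk_mem_Z cs t 1 (Y := e 1) (by
      rw [mem_Z]
      intro i
      rw [L_e cs t, R_e cs t, mul_one, one_mul]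
      · rw [one_mul, cs.length_one, cs.length_simple]; exact one_pos
      · rw [mul_one, cs.length_one, cs.length_simple]; exact one_pos) (Cas_mem cs t v)
    rw [Lm_one, mul_one, pow_one] at h
    exact h
  · have h1 : Function.Injective (Ci cs t) := by
      intro u v h
      have h2 := congrArg (Lm cs t (cz cs t)) h
      rwa [← Module.End.mul_apply, ← Module.End.mul_apply, mul_Ci] at h2
    unfold Pz
    rw [Module.End.mul_eq_comp, LinearMap.range_comp, range_Cas]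
    exact (LinearEquiv.finrank_eq (Submodule.equivMapOfInjective _ h1 _)).symm

/-- **The trace of `X`** on the image of a central operator. -/
theorem trace_X (S : Finset (Set I)) (c : Set I → ℤ) (β : ℤ) {q : W → ℂ} (hq : q ∈ Z cs t) :
    LinearMap.trace ℂ (W → ℂ) (Lm cs t q * Xo cs t S c β) =
      ∑ J ∈ S, (c J : ℂ) * LinearMap.trace ℂ (W → ℂ) (Lm cs t q * Lm cs t (eJ cs t J)) +
        (β : ℂ) * LinearMap.trace ℂ (W → ℂ) (Lm cs t q * Pz cs t) := by
  have hR : ∀ i, Lm cs t q * R cs t i = R cs t i * Lm cs t q := Lm_R cs t q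
  have hL : ∀ i, Lm cs t q * L cs t i = L cs t i * Lm cs t q := Lm_L cs t hq
  have h1 : Xo cs t S c β = U cs t (eps cs t S c) + (β : ℂ) • (Ci cs t ^ 3 * Lm cs t (Om cs t)) := by
    unfold Xo U
    rw [Lm_Yc, mul_add, mul_smul_comm]
    congr 1
    have h2 : Ci cs t ^ 3 * Lm cs t (cz cs t) ^ 2 = Ci cs t := by
      have h : Commute (Ci cs t) (Lm cs t (cz cs t)) := by
        show _ * _ = _ * _
        rw [mul_Ci, Ci_mul]
      rw [pow_succ', mul_assoc, ← h.mul_pow, Ci_mul, one_pow, mul_one]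
    rw [← mul_assoc, h2]
  rw [h1, mul_add, mul_smul_comm, map_add, map_smul, trace_U cs t _ hR hL, smul_eq_mul]
  congr 1
  · unfold eps
    rw [Lm_sum, Finset.mul_sum, map_sum]
    refine Finset.sum_congr rfl fun J _ => ?_
    rw [Lm_smul, mul_smul_comm, map_smul, smul_eq_mul]
  · congr 1
    obtain ⟨z, hz, h⟩ := exists_Lm cs t (a := Lm cs t q * Ci cs t ^ 3)
      (fun i => by rw [mul_assoc, Ci_pow_comm cs t 3 (Lm_R cs t _ i), ← mul_assoc, hR, mul_assoc])
      (fun i => by rw [mul_assoc, Ci_pow_comm cs t 3 (Lm_L cs t (cz_mem cs t) i), ← mul_assoc, hL, mul_assoc])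
    rw [← mul_assoc, h, trace_Om cs t hz, ← h]
    congr 1
    have h2 : Ci cs t ^ 3 * Lm cs t (cz cs t) ^ 2 = Ci cs t := by
      have h : Commute (Ci cs t) (Lm cs t (cz cs t)) := by
        show _ * _ = _ * _
        rw [mul_Ci, Ci_mul]
      rw [pow_succ', mul_assoc, ← h.mul_pow, Ci_mul, one_pow, mul_one]
    rw [mul_assoc (Lm cs t q), h2, mul_assoc]
    rfl

/-- **The eigenvalues of `X`** are rational numbers with bounded numerator and denominator. -/
theorem eigen_X (S : Finset (Set I)) (c : Set I → ℤ) (β : ℤ) {μ : ℂ} {v : W → ℂ} (hv0 : v ≠ 0)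
    (hv : Xo cs t S c β v = μ • v) :
    ∃ (a : ℤ) (b : ℕ), 0 < b ∧ b ≤ Fintype.card W ∧ |a| ≤ (∑ J ∈ S, |c J| + |β|) * Fintype.card W ∧ μ = a / b := by
  have hSA : SA cs t (Xo cs t S c β) := sa_gen cs t 3 (Yc_sa cs t S c β) (Lm_comm cs t (cz_mem cs t) _)
  have hU := hSA.iSup_eq
  obtain ⟨Q, hQ, hQ0, hUQ, hcomm⟩ := exists_proj hU ⟨v, hv0, hv⟩
  have hR : ∀ i, Q * R cs t i = R cs t i * Q := fun i => hcomm _ (Xk_R cs t 3 _ i)
  have hL : ∀ i, Q * L cs t i = L cs t i * Q := fun i => hcomm _ (Xk_L cs t 3 (Yc_mem cs t S c β) i)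
  obtain ⟨z, hz, hQz⟩ := exists_Lm cs t hR hL
  have h1 := trace_X cs t S c β hz
  rw [← hQz] at h1
  have hQU : Q * Xo cs t S c β = μ • Q := by rw [hcomm _ rfl, hUQ]
  rw [hQU, map_smul, trace_idem hQ] at h1
  have h2 : ∀ J ∈ S, (c J : ℂ) * LinearMap.trace ℂ (W → ℂ) (Q * Lm cs t (eJ cs t J)) =
      (((c J) * (finrank ℂ (LinearMap.range (Q * Lm cs t (eJ cs t J))) : ℤ) : ℤ) : ℂ) := by
    intro J _
    rw [trace_idem]
    · push_cast
      rfl
    · have h3 : Lm cs t (eJ cs t J) * Q = Q * Lm cs t (eJ cs t J) := by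
        rw [hQz]
        exact (Lm_comm cs t hz _).symm
      rw [mul_assoc, ← mul_assoc (Lm cs t (eJ cs t J)), h3, mul_assoc, eJ_idem, ← mul_assoc, hQ]
  have h2' : (β : ℂ) * LinearMap.trace ℂ (W → ℂ) (Q * Pz cs t) =
      ((β * (finrank ℂ (LinearMap.range (Q * Pz cs t)) : ℤ) : ℤ) : ℂ) := by
    rw [trace_idem]
    · push_cast
      rfl
    · have h3 : Pz cs t * Q = Q * Pz cs t := by
        rw [hQz]
        exact Pz_comm cs t hz
      rw [mul_assoc, ← mul_assoc (Pz cs t), h3, mul_assoc, Pz_idem, ← mul_assoc, hQ]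
  rw [Finset.sum_congr rfl h2, h2', ← Int.cast_sum, ← Int.cast_add] at h1
  have hb : 0 < finrank ℂ (LinearMap.range Q) := by
    rw [Nat.pos_iff_ne_zero, Ne, Submodule.finrank_eq_zero, LinearMap.range_eq_bot]
    exact hQ0
  have hle : ∀ a : Module.End ℂ (W → ℂ), finrank ℂ (LinearMap.range a) ≤ Fintype.card W := fun a => by
    have := Submodule.finrank_le (LinearMap.range a)
    rwa [Module.finrank_fintype_fun_eq_card] at this
  refine ⟨∑ J ∈ S, (c J) * (finrank ℂ (LinearMap.range (Q * Lm cs t (eJ cs t J))) : ℤ) +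
    β * (finrank ℂ (LinearMap.range (Q * Pz cs t)) : ℤ), finrank ℂ (LinearMap.range Q), hb, hle Q, ?_, ?_⟩
  · refine (abs_add_le _ _).trans ?_
    rw [add_mul]
    refine add_le_add ?_ ?_
    · refine (Finset.abs_sum_le_sum_abs _ _).trans ?_
      rw [Finset.sum_mul]
      refine Finset.sum_le_sum fun j _ => ?_
      rw [abs_mul, Nat.abs_cast]
      exact mul_le_mul_of_nonneg_left (by exact_mod_cast hle _) (abs_nonneg _)
    · rw [abs_mul, Nat.abs_cast]
      exact mul_le_mul_of_nonneg_left (by exact_mod_cast hle _) (abs_nonneg _)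
  · rw [eq_div_iff (by exact_mod_cast hb.ne'), ← h1, smul_eq_mul]

/-- The finite set containing all the eigenvalues. -/
noncomputable def Fx (W : Type*) [Fintype W] {I : Type*} (S : Finset (Set I)) (c : Set I → ℤ) (β : ℤ) : Finset ℂ :=
  ((Finset.Icc (-((∑ J ∈ S, |c J| + |β|) * (Fintype.card W : ℤ))) ((∑ J ∈ S, |c J| + |β|) * (Fintype.card W : ℤ))) ×ˢ
    (Finset.Icc 1 (Fintype.card W))).image (fun p : ℤ × ℕ => (p.1 : ℂ) / (p.2 : ℂ))

theorem eigen_mem_Fx (S : Finset (Set I)) (c : Set I → ℤ) (β : ℤ) (μ : ℂ) (v : W → ℂ) (hv0 : v ≠ 0)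
    (hv : (Ci cs t ^ 3 * Lm cs t (Yc cs t S c β)) v = μ • v) : μ ∈ Fx W S c β := by
  obtain ⟨a, b, hb, hbW, ha, hμ⟩ := eigen_X cs t S c β hv0 hv
  unfold Fx
  rw [Finset.mem_image]
  refine ⟨(a, b), ?_, hμ.symm⟩
  rw [Finset.mem_product, Finset.mem_Icc, Finset.mem_Icc]
  exact ⟨abs_le.1 ha, hb, hbW⟩

end X

section XConst

variable [DecidableEq W] (τ : Wt cs)

theorem continuous_Om : Continuous fun s : ℝ => Om cs (τ.smul s) := by
  unfold Om
  refine continuous_finsetSum _ fun w _ => ?_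
  have h1 : Continuous fun s : ℝ => (((τ.smul s).f w : ℝ) : ℂ)⁻¹ :=
    Continuous.inv₀ (continuous_f cs τ w) fun s => by
      exact_mod_cast ((τ.smul s).f_pos w).ne'
  exact h1.smul (continuous_Lm cs τ (continuous_Cas' cs τ _) (continuous_Cas' cs τ _))

theorem continuous_Yc (S : Finset (Set I)) (c : Set I → ℤ) (β : ℤ) :
    Continuous fun s : ℝ => Yc cs (τ.smul s) S c β := by
  unfold Yc
  have h1 : Continuous fun s : ℝ => (β : ℂ) • Om cs (τ.smul s) :=
    continuous_pi fun w => continuous_const.mul ((continuous_apply w).comp (continuous_Om cs τ))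
  exact (continuous_Lm cs τ (continuous_cz cs τ) (continuous_Lm cs τ (continuous_cz cs τ)
    (continuous_CasC cs τ (continuous_eps cs τ S c)))).add h1

/-- **The rank of `X` on the centre does not depend on the parameter.** -/
theorem rkX_const [Finite I] (S : Finset (Set I)) (c : Set I → ℤ) (β : ℤ) (s s' : ℝ) :
    finrank ℂ ((Z cs (τ.smul s)).map (Lm cs (τ.smul s) (Yc cs (τ.smul s) S c β))) =
      finrank ℂ ((Z cs (τ.smul s')).map (Lm cs (τ.smul s') (Yc cs (τ.smul s') S c β))) :=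
  rank_gen cs τ 3 (continuous_Yc cs τ S c β) (fun s => Yc_mem cs (τ.smul s) S c β)
    (fun s => Yc_sa cs (τ.smul s) S c β) (Fx W S c β) (fun s μ v hv0 hv => eigen_mem_Fx cs (τ.smul s) S c β μ v hv0 hv)
    s s'

end XConst

end Cfsg.Agent.H157.HK
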